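import Cfsg.Agent.H82.TS.Star
import Cfsg.Agent.H296.FFourPar
import Cfsg.Agent.H23.OZ.FourTwoFacts
import Cfsg.Agent.FourTwo.Par

/-!
# `F₄(2)` : evaluation of T* (helper874, S5745), the frame

The root group datum of `LL = F₄(2)`; subgroups generated by root groups as `RG P`; codes of the elements fixed by a word.
-/

set_option autoImplicit false
set_option linter.unusedSectionVars false
set_option maxRecDepth 100000

namespace Cfsg.Agent.H874.TS

open CoxeterSystem Cfsg.Agent.ChevalleyStructure.CoxeterGeom Cfsg.Agent.Tits.Roots Cfsg.Agent.Tits.Core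
  Cfsg.Agent.Nodes.Reps Cfsg.Agent.Nodes.BNOf
  Cfsg.Agent.Nodes.StabComb Cfsg.Agent.Nodes.Bruhat Cfsg.Agent.Nodes.LeviDec
open Cfsg.Lie Cfsg.Agent.ChevalleyStructure Cfsg.Agent.ChevalleyStructure.Elts
  Cfsg.Agent.ChevalleyStructure.RootVec
  Cfsg.Agent.ChevalleyStructure.CoxeterGeomTypes
open Cfsg.Agent.Nodes Cfsg.Agent.Nodes.RGDChev
open Cfsg.Agent.SigZero.FFourTwo (isType)
open Cfsg.Agent.FourTwo.Base Cfsg.Agent.FourTwo.Classes Cfsg.Agent.FourTwo.Par
open Cfsg.Agent.FourTwo.UCode (reflU conjU mulU invU el_mod)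
open Cfsg.Agent.ChevalleyStructure.TwF4.Rel (sp refl)
open Cfsg.Agent.ChevalleyStructure.F4TwU (posList mem_posList)
open Cfsg.Agent.H82.TS

/-- the Coxeter system -/
abbrev c0 : CoxeterSystem CoxeterMatrix.F₄ CoxeterMatrix.F₄.Group := CoxeterMatrix.F₄.toCoxeterSystem

abbrev h0 := (isType).isCartan

/-- the torus (trivial) -/
abbrev T0 : Subgroup LL := (chevF4.diagonalSubgroup (ZMod 2)).subgroupOf (chevF4.group (ZMod 2))

/-- the root groups -/
abbrev X0 : (Fin 4 → ℤ) → Subgroup LL := fun v => (XV chevF4 4 (ZMod 2) v).subgroupOf (chevF4.group (ZMod 2))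

abbrev n0 (i : Fin 4) : LL := ⟨nn isType (ZMod 2) i, nn_mem_group isType i⟩

instance finW : Finite CoxeterMatrix.F₄.Group := finite_W isType c0

theorem rg : RGD c0 h0 2 T0 n0 X0 := rgd isType c0 2

theorem T0_eq : T0 = ⊥ := by
  have h1 : chevF4.diagonalSubgroup (ZMod 2) = ⊥ := Cfsg.Agent.FourTwo.BN.diag_eq_bot
  show (chevF4.diagonalSubgroup (ZMod 2)).subgroupOf (chevF4.group (ZMod 2)) = ⊥
  rw [h1, Subgroup.bot_subgroupOf]

theorem mem_X0 {r : ℕ} (hr : r < 48) {g : LL} : g ∈ X0 (vec chevF4 4 r) ↔ g = 1 ∨ g = x r := by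
  show (g : GL chevF4.Idx (ZMod 2)) ∈ XV chevF4 4 (ZMod 2) (vec chevF4 4 r) ↔ _
  rw [XV_vec isType (ZMod 2) hr, mem_rootSubgroup_iff isType.inList r]
  constructor
  · rintro ⟨t, ht⟩
    rcases zmod_cases t with rfl | rfl
    · left
      apply Subtype.ext
      rw [ht]
      exact Units.ext (Elts.x_zero isType.inList r)
    · right
      apply Subtype.ext
      rw [ht]
      exact Units.ext rfl
  · rintro (rfl | rfl)
    · exact ⟨0, Units.ext (Elts.x_zero isType.inList r).symm⟩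
    · exact ⟨1, Units.ext rfl⟩

theorem isRoot_iff' {v : Fin 4 → ℤ} : IsRoot c0 h0 v ↔ ∃ r < 48, vec chevF4 4 r = v := isRoot_iff isType c0 v

theorem Sup_eq {S : Set (Fin 4 → ℤ)} {P : ℕ → Bool} (hS : ∀ v ∈ S, IsRoot c0 h0 v)
    (hP : ∀ r < 48, (P r = true ↔ vec chevF4 4 r ∈ S)) : RGD.Sup X0 S = RG P := by
  apply le_antisymm
  · refine RGD.Sup_le fun v hv => ?_
    obtain ⟨r, hr, rfl⟩ := isRoot_iff'.1 (hS v hv)
    intro g hg
    rcases (mem_X0 hr).1 hg with rfl | rfl
    · exact one_mem _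
    · exact x_mem_RG hr ((hP r hr).2 hv)
  · exact RG_le fun r hr hp => RGD.le_Sup ((hP r hr).1 hp) ((mem_X0 hr).2 (Or.inr rfl))

/-! ### Words -/

/-- letters: `(true, i)` is `n i`, `(false, c)` is `ec c` -/
def lt (l : Bool × ℕ) : LL := if l.1 then n l.2 else ec l.2

/-- the element of a word -/
def we (w : List (Bool × ℕ)) : LL := (w.map lt).prod

theorem we_nil : we [] = 1 := rfl

theorem we_cons (l : Bool × ℕ) (w : List (Bool × ℕ)) : we (l :: w) = lt l * we w := by simp [we]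

theorem we_append (w w' : List (Bool × ℕ)) : we (w ++ w') = we w * we w' := by simp [we]

/-- conjugation of a code by a letter -/
def st1 (l : Bool × ℕ) (e : ℕ) : ℕ := cond l.1 (reflU l.2 e) (conjU l.2 e)

def ok1 (l : Bool × ℕ) (e : ℕ) : Bool := !l.1 || (decide (l.2 < 4) && !(e.testBit (sp l.2 - 24)))

def cw : List (Bool × ℕ) → ℕ → ℕ
  | [], e => e
  | l :: w, e => st1 l (cw w e)

def okw : List (Bool × ℕ) → ℕ → Bool
  | [], _ => true
  | l :: w, e => okw w e && ok1 l (cw w e)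

theorem ec_st1 {l : Bool × ℕ} {e : ℕ} (h : ok1 l e = true) : ec (st1 l e) = lt l * ec e * (lt l)⁻¹ := by
  obtain ⟨b, c⟩ := l
  cases b
  · exact ec_conjU c e
  · simp only [ok1, Bool.not_true, Bool.false_or, Bool.and_eq_true, decide_eq_true_eq, Bool.not_eq_true'] at h
    exact ec_reflU h.1 h.2

theorem ec_cw : ∀ {w : List (Bool × ℕ)} {e : ℕ}, okw w e = true → ec (cw w e) = we w * ec e * (we w)⁻¹
  | [], e, _ => by rw [we_nil, one_mul, inv_one, mul_one]; rfl
  | l :: w, e, h => by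
    simp only [okw, Bool.and_eq_true] at h
    rw [cw, ec_st1 h.2, ec_cw h.1, we_cons]
    group

/-- the codes of the products of the letters of a sublist -/
def subs : List ℕ → List ℕ
  | [] => [0]
  | j :: l => subs l ++ (subs l).map fun e => mulU (2 ^ j) e

theorem ec_mod (e : ℕ) : ec (e % 2 ^ 24) = ec e := Subtype.ext (el_mod (ZMod 2) e)

theorem exists_sub (S : ℕ → Bool) : ∀ (l : List ℕ), (∀ j ∈ l, 24 ≤ j ∧ j < 48) →
    ∃ e ∈ subs (l.map fun j => j - 24), wd (l.filter S) = ec e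
  | [], _ => ⟨0, by simp [subs], by rw [List.filter_nil, ec_zero]; rfl⟩
  | j :: l, hl => by
    obtain ⟨e, he, h1⟩ := exists_sub S l fun i hi => hl i (List.mem_cons_of_mem _ hi)
    have hj := hl j List.mem_cons_self
    rw [List.map_cons, subs]
    by_cases hS : S j = true
    · refine ⟨mulU (2 ^ (j - 24)) e, List.mem_append_right _ (List.mem_map.2 ⟨e, he, rfl⟩), ?_⟩
      rw [List.filter_cons_of_pos hS, wd_cons, h1, ec_mulU, x_eq_ec hj.1 hj.2]
    · exact ⟨e, List.mem_append_left _ he, by rw [List.filter_cons_of_neg hS, h1]⟩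

/-- the codes of `RG P` -/
def cds (P : ℕ → Bool) : List ℕ := subs (((posList 24).filter P).map fun j => j - 24)

theorem exists_cd {P : ℕ → Bool} (h : closedB P = true) {g : LL} (hg : g ∈ RG P) : ∃ e ∈ cds P, g = ec e := by
  obtain ⟨S, rfl⟩ := nf_RG h hg
  obtain ⟨e, he, h1⟩ := exists_sub S ((posList 24).filter P) fun j hj => by
    rw [List.mem_filter, mem_posList] at hj
    exact hj.1
  refine ⟨e, he, ?_⟩
  rw [← h1, List.filter_filter]
  congr 1
  exact List.filter_congr fun r _ => by rw [Bool.and_comm]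

/-- the number of codes of `RG P` fixed by the word -/
def fixn (w : List (Bool × ℕ)) (P : ℕ → Bool) : ℕ :=
  ((cds P).filter fun e => Nat.beq (cw w e % 2 ^ 24) (e % 2 ^ 24)).length

def okP (w : List (Bool × ℕ)) (P : ℕ → Bool) : Bool := closedB P && (cds P).all (okw w)

theorem card_fix_le {P : ℕ → Bool} {w : List (Bool × ℕ)} (h : okP w P = true) :
    Nat.card (Cx (we w) ⊓ RG P : Subgroup LL) ≤ fixn w P := by
  rw [okP, Bool.and_eq_true, List.all_eq_true] at h
  set L := (cds P).filter fun e => Nat.beq (cw w e % 2 ^ 24) (e % 2 ^ 24) with hL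
  have h1 : ∀ g : (Cx (we w) ⊓ RG P : Subgroup LL), ∃ i : Fin L.length, (g : LL) = ec (L.get i) := by
    rintro ⟨g, hg1, hg2⟩
    obtain ⟨e, he, rfl⟩ := exists_cd h.1 hg2
    have h2 : ec (cw w e) = ec e := by
      rw [ec_cw (h.2 e he)]
      have h3 := mem_Cx.1 hg1
      rw [h3, mul_inv_cancel_right]
    have h3 : cw w e % 2 ^ 24 = e % 2 ^ 24 := by
      refine Cfsg.Agent.FourTwo.Classes.ec_inj (Nat.mod_lt _ (by norm_num)) (Nat.mod_lt _ (by norm_num)) ?_
      rw [ec_mod, ec_mod, h2]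
    have h4 : e ∈ L := by
      rw [hL, List.mem_filter]
      exact ⟨he, by rw [h3]; exact Nat.beq_refl _⟩
    obtain ⟨i, hi⟩ := List.get_of_mem h4
    exact ⟨i, by rw [hi]⟩
  choose f hf using h1
  have hinj : Function.Injective f := by
    intro a b hab
    apply Subtype.ext
    rw [hf a, hf b, hab]
  have h5 := Nat.card_le_card_of_injective f hinj
  rwa [Nat.card_fin] at h5

end Cfsg.Agent.H874.TS
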