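import Cfsg.Agent.H874.TS.Lev

/-!
# `F₄(2)` (helper874, S5745): the evaluations
-/

set_option autoImplicit false
set_option linter.unusedSectionVars false
set_option maxRecDepth 100000

namespace Cfsg.Agent.H874.TS

open CoxeterSystem Cfsg.Agent.ChevalleyStructure.CoxeterGeom Cfsg.Agent.Tits.Roots Cfsg.Agent.Tits.Core
  Cfsg.Agent.Nodes.Reps Cfsg.Agent.Nodes.BNOf
  Cfsg.Agent.Nodes.StabComb Cfsg.Agent.Nodes.Bruhat Cfsg.Agent.Nodes.LeviDec
open Cfsg.Lie
open Cfsg.Agent.FourTwo.Base Cfsg.Agent.FourTwo.Classes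
open Cfsg.Agent.ChevalleyStructure.TwF4.Rel (sp refl)
open Cfsg.Agent.H82.TS

attribute [local irreducible] wd

/-! ### Letters and words -/

/-- the word of roots of a letter -/
def lw (l : Bool × ℕ) : List ℕ := cond l.1 [sp l.2, 47 - sp l.2, sp l.2] [24 + Nat.log2 l.2]

def okl (l : Bool × ℕ) : Bool := l.1 || (Nat.beq (2 ^ Nat.log2 l.2) l.2 && Nat.ble (Nat.log2 l.2) 23)

theorem lt_lw {l : Bool × ℕ} (h : okl l = true) : lt l = wd (lw l) := by
  obtain ⟨b, c⟩ := l
  cases b
  · simp only [okl, Bool.false_or, Bool.and_eq_true, Nat.ble_eq] at h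
    show ec c = wd [24 + Nat.log2 c]
    rw [wd_one, x_eq_ec (by omega) (by omega), Nat.add_sub_cancel_left, Nat.eq_of_beq_eq_true h.1]
  · exact n_eq_wd c

theorem we_lw : ∀ {w : List (Bool × ℕ)}, w.all okl = true → we w = wd (w.flatMap lw)
  | [], _ => by unfold wd; rfl
  | l :: w, h => by
    rw [List.all_cons, Bool.and_eq_true] at h
    rw [we_cons, List.flatMap_cons, wd_append, lt_lw h.1, we_lw h.2]

theorem we_eq {w : List (Bool × ℕ)} {u : List ℕ} (h : w.all okl = true) (h' : chk (w.flatMap lw) u = true) :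
    we w = wd u := (we_lw h).trans (wd_eq _ _ h')

/-- a word is not trivial -/
theorem we_ne_one {w : List (Bool × ℕ)} (e : ℕ) (h : okw w e = true)
    (h' : Nat.beq (cw w e % 2 ^ 24) (e % 2 ^ 24) = false) : we w ≠ 1 := by
  intro h1
  have h2 := ec_cw h
  rw [h1, one_mul, inv_one, mul_one] at h2
  have h3 : cw w e % 2 ^ 24 = e % 2 ^ 24 := by
    refine Cfsg.Agent.FourTwo.Classes.ec_inj (Nat.mod_lt _ (by norm_num)) (Nat.mod_lt _ (by norm_num)) ?_
    rw [ec_mod, ec_mod, h2]
  rw [h3, Nat.beq_refl] at h'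
  exact Bool.noConfusion h'

/-- masks -/
def mk (l : List ℕ) : ℕ := (l.map fun r => 2 ^ r).sum

/-- the evaluation with the part in the Levi subgroup -/
theorem bound {m c : ℕ} {w : List (Bool × ℕ)} {Fl : List ℕ} {RY : List ℕ} {B : ℕ}
    (hR : chkR m w Fl RY = true) (hB : sumW m Fl = B) {r k : ℕ} (hr : r.Prime) (hr2 : r ≠ 2)
    (hx : we w ^ r ^ k = 1) (hell : Ell c0 h0 T0 X0 (JJ m) (we w)) (hxL : we w ∈ LM m)
    (hc : Nat.card (Cx (we w) ⊓ LM m : Subgroup LL) ≤ c) :
    Nat.card (Cx (we w)) ≤ c * 2 ^ Fl.length * B :=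
  (eval hR hB hr hr2 hx hell hxL).trans (Nat.mul_le_mul_right _ (Nat.mul_le_mul_right _ hc))

/-- the words -/
def w1 : List (Bool × ℕ) := [(false, 512), (true, 0)]
def w2 : List (Bool × ℕ) := [(false, 8), (true, 1)]
def w4 : List (Bool × ℕ) := [(false, 2), (true, 2)]
def w8 : List (Bool × ℕ) := [(false, 1), (true, 3)]
def w6 : List (Bool × ℕ) := [(false, 8), (false, 2), (true, 1), (true, 2)]
def w3 : List (Bool × ℕ) := [(false, 512), (true, 0), (true, 1)]
def w12 : List (Bool × ℕ) := [(false, 2), (true, 2), (true, 3)]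

theorem we1 : we w1 = sg 33 := we_eq (by decide +kernel) (by decide +kernel)
theorem we2 : we w2 = sg 27 := we_eq (by decide +kernel) (by decide +kernel)
theorem we4 : we w4 = sg 25 := we_eq (by decide +kernel) (by decide +kernel)
theorem we8 : we w8 = sg 24 := we_eq (by decide +kernel) (by decide +kernel)

theorem sum1 : sumW 1 [24, 25, 26, 37, 38, 39, 45, 46, 47] = 2835 := by decide +kernel
theorem sum2 : sumW 2 [24, 28, 29, 32, 41, 42, 44, 46, 47] = 2835 := by decide +kernel
theorem sum4 : sumW 4 [30, 29, 33, 41, 36, 37, 47, 40, 44] = 2835 := by decide +kernel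
theorem sum8 : sumW 8 [27, 32, 33, 34, 43, 45, 39, 40, 44] = 2835 := by decide +kernel
theorem sum5 : sumW 5 [27, 28, 30, 31, 32, 38] = 81 := by decide +kernel
theorem sum9 : sumW 9 [28, 29, 32, 30, 31, 37] = 81 := by decide +kernel
theorem sum10 : sumW 10 [25, 26, 28, 35, 36, 37] = 81 := by decide +kernel
theorem sum6 : sumW 6 [24, 33, 36, 42] = 45 := by decide +kernel
theorem sum3 : sumW 3 [24, 46, 47] = 42 := by decide +kernel
theorem sum12 : sumW 12 [33, 40, 44] = 42 := by decide +kernel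

theorem chk1 : chkR 1 w1 [24, 25, 26, 37, 38, 39, 45, 46, 47]
    ([[24], [25], [26], [27, 34], [28, 35], [29, 36], [30, 37, 41], [31, 38, 42], [32, 39, 43], [40, 44], [45], [46],
      [47]].map mk) = true := by decide +kernel
theorem chk2' : chkR 2 w2 [24, 28, 29, 32, 41, 42, 44, 46, 47]
    ([[24], [25, 28, 30], [26, 29, 31], [32], [33, 34], [35, 37], [36, 38], [39, 40], [41], [42], [43, 44, 45], [46],
      [47]].map mk) = true := by decide +kernel
theorem chk4 : chkR 4 w4 [30, 29, 33, 41, 36, 37, 47, 40, 44]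
    ([[24, 26], [27, 28, 30], [29], [31, 32], [33], [34, 35, 41], [36], [37], [38, 39, 47], [40], [42, 43], [44],
      [45, 46]].map mk) = true := by decide +kernel
theorem chk8 : chkR 8 w8 [27, 32, 33, 34, 43, 45, 39, 40, 44]
    ([[25, 26], [27], [28, 29, 32], [30, 31], [33], [34], [35, 36, 43], [37, 38, 45], [39], [40], [41, 42], [44],
      [46, 47]].map mk) = true := by decide +kernel
theorem chk5 : chkR 5 (w1 ++ w4) [27, 28, 30, 31, 32, 38]
    ([[24, 26], [27, 28, 30, 34, 35, 37, 41], [29, 36], [31, 32, 38, 39, 42, 43, 47], [40, 44], [45, 46]].map mk) =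
      true := by decide +kernel
theorem chk9 : chkR 9 (w1 ++ w8) [28, 29, 32, 30, 31, 37]
    ([[25, 26], [27, 34], [28, 29, 32, 35, 36, 39, 43], [30, 31, 37, 38, 41, 42, 45], [40, 44], [46, 47]].map mk) =
      true := by decide +kernel
theorem chk10 : chkR 10 (w2 ++ w8) [25, 26, 28, 35, 36, 37]
    ([[25, 26, 28, 29, 30, 31, 32], [33, 34], [35, 36, 37, 38, 43, 44, 45], [39, 40], [41, 42], [46, 47]].map mk) =
      true := by decide +kernel
theorem chk6 : chkR 6 w6 [24, 33, 36, 42]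
    ([[24, 26, 29, 31, 32], [33, 34, 35, 37, 41], [36, 38, 39, 40, 47], [42, 43, 44, 45, 46]].map mk) = true := by
  decide +kernel
theorem chk3 : chkR 3 w3 [24, 46, 47]
    ([[24], [25, 28, 30, 35, 37, 41], [26, 29, 31, 36, 38, 42], [32, 39, 40, 43, 44, 45], [46], [47]].map mk) =
      true := by decide +kernel
theorem chk12 : chkR 12 w12 [33, 40, 44]
    ([[27, 28, 29, 30, 31, 32], [33], [34, 35, 36, 41, 42, 43], [37, 38, 39, 45, 46, 47], [40], [44]].map mk) =
      true := by decide +kernel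

end Cfsg.Agent.H874.TS
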