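import Cfsg.Agent.H874.TS.Tup
import Cfsg.Agent.H82.TS.Odd
import Cfsg.Agent.H27.TS.Ex

/-!
# `F₄(2)` : evaluation of T* (helper874, S5745), the theorem `eval`
-/

set_option autoImplicit false
set_option linter.unusedSectionVars false
set_option maxRecDepth 100000

namespace Cfsg.Agent.H874.TS

open CoxeterSystem Cfsg.Agent.ChevalleyStructure.CoxeterGeom Cfsg.Agent.Tits.Roots Cfsg.Agent.Tits.Core
  Cfsg.Agent.Nodes.Reps Cfsg.Agent.Nodes.BNOf
  Cfsg.Agent.Nodes.StabComb Cfsg.Agent.Nodes.Bruhat Cfsg.Agent.Nodes.LeviDec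
open Cfsg.Lie Cfsg.Agent.ChevalleyStructure Cfsg.Agent.ChevalleyStructure.Elts
  Cfsg.Agent.ChevalleyStructure.RootVec
  Cfsg.Agent.ChevalleyStructure.CoxeterGeomTypes
open Cfsg.Agent.Nodes Cfsg.Agent.Nodes.RGDChev
open Cfsg.Agent.SigZero.FFourTwo (isType)
open Cfsg.Agent.FourTwo.Base Cfsg.Agent.FourTwo.Classes Cfsg.Agent.FourTwo.Par
open Cfsg.Agent.FourTwo.UCode (reflU conjU mulU invU el_mod)
open Cfsg.Agent.ChevalleyStructure.TwF4.Rel (sp refl)
open Cfsg.Agent.ChevalleyStructure.F4TwU (posList mem_posList)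
open Cfsg.Agent.H82.TS

/-! ### The frame facts -/

theorem GG_top : GG c0 h0 T0 X0 = ⊤ := Cfsg.Agent.KFacts.RgdFilt.GG_eq_top (G1_eq_top isType c0)

theorem bt : Cfsg.Agent.KFacts.RgdCharP.BT c0 h0 2 T0 X0 := fun _ hS hS1 =>
  Cfsg.Agent.KFacts.RgdBorelTits.borel_tits (Cfsg.Agent.KFacts.RgdFiltChev.filt (K := ZMod 2) isType c0 2)
    GG_top hS hS1

theorem LJ_eq (m : ℕ) : LJ c0 h0 T0 X0 (JJ m) = RG (rtB m) := by
  unfold LJ
  rw [T0_eq, bot_sup_eq]
  exact Sup_eq (fun v hv => hv.1) fun r hr => (mem_RootsJ hr).symm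

/-- the positive roots outside `J` -/
def PR (m : ℕ) : Finset (Fin 4 → ℤ) := (((List.range 48).filter (notB m)).map (vec chevF4 4)).toFinset

theorem mem_PR {m : ℕ} {β : Fin 4 → ℤ} : β ∈ PR m ↔ β ∈ NotJ c0 h0 (JJ m) := by
  rw [PR, List.mem_toFinset, List.mem_map]
  constructor
  · rintro ⟨r, hr, rfl⟩
    rw [List.mem_filter, List.mem_range] at hr
    exact (mem_NotJ hr.1).2 hr.2
  · intro h
    obtain ⟨r, hr, rfl⟩ := isRoot_iff'.1 h.1
    exact ⟨r, List.mem_filter.2 ⟨List.mem_range.2 hr, (mem_NotJ hr).1 h⟩, rfl⟩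

/-- the weights -/
def phi (Fl : List ℕ) (β : Fin 4 → ℤ) : ℕ := if β ∈ Fl.map (vec chevF4 4) then 2 else 1

theorem prod_phi (Fl : List ℕ) (A : Finset (Fin 4 → ℤ)) :
    ∏ β ∈ A, phi Fl β = 2 ^ (A.filter fun β => β ∈ Fl.map (vec chevF4 4)).card := by
  unfold phi
  rw [Finset.prod_ite, Finset.prod_const, Finset.prod_const_one, mul_one]

theorem prod_le (Fl : List ℕ) (A : Finset (Fin 4 → ℤ)) (p : ℕ → Bool)
    (hp : ∀ r ∈ Fl, vec chevF4 4 r ∈ A → p r = true) : ∏ β ∈ A, phi Fl β ≤ 2 ^ (Fl.filter p).length := by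
  rw [prod_phi]
  refine Nat.pow_le_pow_right (by norm_num) ?_
  have h1 : (A.filter fun β => β ∈ Fl.map (vec chevF4 4)) ⊆ ((Fl.filter p).map (vec chevF4 4)).toFinset := by
    intro β hβ
    rw [Finset.mem_filter, List.mem_map] at hβ
    obtain ⟨h1, r, hr, rfl⟩ := hβ
    rw [List.mem_toFinset]
    exact List.mem_map_of_mem (List.mem_filter.2 ⟨hr, hp r hr h1⟩)
  refine (Finset.card_le_card h1).trans ((List.toFinset_card_le _).trans ?_)
  rw [List.length_map]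

theorem le_prod (Fl : List ℕ) (A : Finset (Fin 4 → ℤ)) (p : ℕ → Bool) (hnd : Fl.Nodup) (h48 : ∀ r ∈ Fl, r < 48)
    (hp : ∀ r ∈ Fl, p r = true → vec chevF4 4 r ∈ A) : 2 ^ (Fl.filter p).length ≤ ∏ β ∈ A, phi Fl β := by
  rw [prod_phi]
  refine Nat.pow_le_pow_right (by norm_num) ?_
  have h1 : ((Fl.filter p).map (vec chevF4 4)).toFinset ⊆ A.filter fun β => β ∈ Fl.map (vec chevF4 4) := by
    intro β hβ
    rw [List.mem_toFinset, List.mem_map] at hβ
    obtain ⟨r, hr, rfl⟩ := hβ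
    rw [List.mem_filter] at hr
    exact Finset.mem_filter.2 ⟨hp r hr.1 hr.2, List.mem_map_of_mem hr.1⟩
  have h2 : ((Fl.filter p).map (vec chevF4 4)).Nodup := by
    refine List.Nodup.map_on ?_ (hnd.filter _)
    intro a ha b hb hab
    exact vec_inj (h48 a (List.mem_filter.1 ha).1) (h48 b (List.mem_filter.1 hb).1) hab
  have h3 := Finset.card_le_card h1
  rwa [List.toFinset_card_of_nodup h2, List.length_map] at h3

/-- the check for the rays (masks of roots) -/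
def chkR (m : ℕ) (w : List (Bool × ℕ)) (Fl : List ℕ) (RY : List ℕ) : Bool :=
  ((List.range 48).all fun a => !(notB m a) ||
      RY.any fun l => Nat.testBit l a && (List.range 48).all fun r => rayB m a r == Nat.testBit l r) &&
    (RY.all fun l => okP w (Nat.testBit l) &&
      Nat.ble (fixn w (Nat.testBit l)) (2 ^ (Fl.filter (Nat.testBit l)).length)) &&
    decide Fl.Nodup && Fl.all (notB m)

/-- **The evaluation.** -/
theorem eval {m : ℕ} {w : List (Bool × ℕ)} {Fl : List ℕ} {RY : List ℕ} {B : ℕ}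
    (hR : chkR m w Fl RY = true) (hB : sumW m Fl = B) {r k : ℕ} (hr : r.Prime) (hr2 : r ≠ 2)
    (hx : we w ^ r ^ k = 1) (hell : Ell c0 h0 T0 X0 (JJ m) (we w))
    (hxL : we w ∈ LJ c0 h0 T0 X0 (JJ m)) :
    Nat.card (Cx (we w)) ≤
      Nat.card (Cx (we w) ⊓ LJ c0 h0 T0 X0 (JJ m) : Subgroup LL) * 2 ^ Fl.length * B := by
  classical
  have hF : Fact r.Prime := ⟨hr⟩
  have hrp : ¬ r ∣ 2 := fun h => hr2 ((Nat.prime_dvd_prime_iff_eq hr Nat.prime_two).1 h)
  simp only [chkR, Bool.and_eq_true, List.all_eq_true, List.mem_range, Bool.or_eq_true, Bool.not_eq_true',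
    List.any_eq_true, beq_iff_eq, decide_eq_true_eq] at hR
  obtain ⟨⟨⟨h1, h2⟩, h3⟩, h4⟩ := hR
  have h48 : ∀ r ∈ Fl, r < 48 := fun s hs => lt_of_notB (h4 s hs)
  have hfin : (NJ c0 h0 (JJ m)).Finite := Set.toFinite _
  have hst := star rg (J := JJ m) hx (Cfsg.Agent.H27.TS.Ex.not_dvd_card_VJ rg hr hrp (JJ m)) hell hxL
    (by rw [GG_top]; exact le_top) (PR m) (fun β => mem_PR) (phi Fl) (fun α hα => ?_) hfin.toFinset
    (fun w hw => (Set.Finite.mem_toFinset hfin).2 hw)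
  · refine hst.trans ?_
    refine Nat.mul_le_mul (Nat.mul_le_mul_left _ ?_) ?_
    · have := prod_le Fl (PR m) (fun _ => true) (fun _ _ _ => rfl)
      rwa [List.filter_true] at this
    · rw [← hB]
      refine (Finset.sum_le_sum fun w' hw' => ?_).trans (sum_le m (fun t => 2 ^ ex Fl t) hfin.toFinset
        fun w' hw' => (Set.Finite.mem_toFinset hfin).1 hw')
      refine prod_le Fl _ (fun r => Nat.ble 128 (lin r (tup w').1 (tup w').2.1 (tup w').2.2.1 (tup w').2.2.2))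
        fun s hs hsA => ?_
      rw [Nat.ble_eq, ← cd_rep w' (h48 s hs) (ge_of_notB (h4 s hs))]
      exact cd_neg ((isRoot_vec' (h48 s hs)).act w') (Finset.mem_filter.1 hsA).2
  · obtain ⟨a, ha, rfl⟩ := isRoot_iff'.1 hα.1
    have ha' : notB m a = true := (mem_NotJ ha).1 hα
    obtain ⟨l, hl, -, h5⟩ := (h1 a ha).resolve_left (by rw [ha']; exact Bool.noConfusion)
    obtain ⟨h6, h7⟩ := h2 l hl
    have h8 : RGD.Sup X0 (Ray c0 h0 (JJ m) (vec chevF4 4 a)) = RG (Nat.testBit l) :=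
      Sup_eq (fun v hv => hv.1.1) fun s hs => by rw [← h5 s hs, mem_Ray ha hs ha']
    rw [h8]
    refine (card_fix_le h6).trans ((Nat.le_of_ble_eq_true h7).trans ?_)
    refine le_prod Fl _ _ h3 h48 fun s hs hsl => ?_
    rw [Finset.mem_filter, mem_PR]
    have h9 : vec chevF4 4 s ∈ Ray c0 h0 (JJ m) (vec chevF4 4 a) :=
      (mem_Ray ha (h48 s hs) ha').2 (by rw [h5 s (h48 s hs)]; exact hsl)
    exact ⟨h9.1, h9⟩

end Cfsg.Agent.H874.TS
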