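import Cfsg.Agent.H874.TS.Three

/-!
# `F₄(2)` (helper874, S5745): elements of prime order conjugate into a cyclic group; no elliptic element of order five
-/

set_option autoImplicit false
set_option linter.unusedSectionVars false
set_option maxRecDepth 100000

namespace Cfsg.Agent.H874.TS

open CoxeterSystem Cfsg.Agent.ChevalleyStructure.CoxeterGeom Cfsg.Agent.Tits.Roots Cfsg.Agent.Tits.Core
  Cfsg.Agent.Nodes.Reps Cfsg.Agent.Nodes.BNOf
  Cfsg.Agent.Nodes.StabComb Cfsg.Agent.Nodes.Bruhat Cfsg.Agent.Nodes.LeviDec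
open Cfsg.Lie
open Cfsg.Agent.FourTwo.Base Cfsg.Agent.FourTwo.Classes
open Cfsg.Agent.H82.TS

attribute [local irreducible] wd

/-! ### Abstract part -/

theorem pow_of_conj {G : Type*} [Group G] {f z : G} (hf : f * z = z ^ 2 * f) (i : ℕ) :
    f * z ^ i * f⁻¹ = (z ^ i) ^ 2 := by
  have h1 : f * z * f⁻¹ = z ^ 2 := by rw [hf, mul_inv_cancel_right]
  rw [← conj_pow, h1, ← pow_mul, ← pow_mul, mul_comm]

/-- `⟨z⟩ × ⟨z'⟩` -/
theorem five_sub {G : Type*} [Group G] [Finite G] {z z' f : G} (h5 : z ^ 5 = 1) (h1 : z ≠ 1) (h5' : z' ^ 5 = 1)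
    (h1' : z' ≠ 1) (hzz : z * z' = z' * z) (hf : f * z = z ^ 2 * f) (hfz : f * z' = z' * f) :
    ∃ Q : Subgroup G, Nat.card Q = 5 ^ 2 ∧ (∀ L : Subgroup G, z ∈ L → z' ∈ L → Q ≤ L) ∧
      ∀ g ∈ Q, ∃ i < 5, ∃ j < 5, g = z ^ i * z' ^ j := by
  have hp5 : Nat.Prime 5 := by norm_num
  have hF : Fact (Nat.Prime 5) := ⟨hp5⟩
  have hcomm : ∀ (a : Subgroup.zpowers z) (b : Subgroup.zpowers z'), Commute ((Subgroup.zpowers z).subtype a)
      ((Subgroup.zpowers z').subtype b) := by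
    rintro ⟨a, ha⟩ ⟨b, hb⟩
    obtain ⟨i, rfl⟩ := Subgroup.mem_zpowers_iff.1 ha
    obtain ⟨j, rfl⟩ := Subgroup.mem_zpowers_iff.1 hb
    exact ((show Commute z z' from hzz).zpow_left i).zpow_right j
  have hmem : ∀ {w : G} (_ : w ^ 5 = 1) {a : G}, a ∈ Subgroup.zpowers w → ∃ i < 5, a = w ^ i := by
    intro w hw a ha
    rw [← mem_powers_iff_mem_zpowers] at ha
    obtain ⟨i, hi⟩ := ha
    exact ⟨i % 5, Nat.mod_lt _ (by norm_num), by rw [← hi]; exact pow_eq_pow_mod i hw⟩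
  let φ := MonoidHom.noncommCoprod (Subgroup.zpowers z).subtype (Subgroup.zpowers z').subtype hcomm
  have hφ : ∀ a b, φ (a, b) = (a : G) * b := fun a b => rfl
  have hinj : Function.Injective φ := by
    rw [injective_iff_map_eq_one]
    rintro ⟨⟨a, ha⟩, ⟨b, hb⟩⟩ hab
    rw [hφ] at hab
    have hab' : a * b = 1 := hab
    have e1 : a = b⁻¹ := eq_inv_of_mul_eq_one_left hab'
    have ha' : a ∈ Subgroup.zpowers z' := by rw [e1]; exact Subgroup.inv_mem _ hb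
    obtain ⟨i, -, hi⟩ := hmem h5 ha
    obtain ⟨j, -, hj⟩ := hmem h5' ha'
    have h2 : f * a * f⁻¹ = a ^ 2 := by rw [hi]; exact pow_of_conj hf i
    have h3 : f * a = a * f := by rw [hj]; exact ((show Commute f z' from hfz).pow_right j).eq
    rw [h3, mul_inv_cancel_right, pow_two] at h2
    have h4 : a = 1 := by
      have := h2.symm
      rwa [mul_eq_left] at this
    subst h4
    rw [one_mul] at hab'
    subst hab'
    rfl
  refine ⟨φ.range, ?_, ?_, ?_⟩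
  · rw [← Nat.card_congr (MonoidHom.ofInjective hinj).toEquiv, Nat.card_prod, Nat.card_zpowers, Nat.card_zpowers,
      orderOf_eq_prime h5 h1, orderOf_eq_prime h5' h1']
    norm_num
  · rintro L hz hz' g ⟨⟨a, b⟩, rfl⟩
    rw [hφ]
    exact L.mul_mem ((Subgroup.zpowers_le.2 hz) a.2) ((Subgroup.zpowers_le.2 hz') b.2)
  · rintro g ⟨⟨a, b⟩, rfl⟩
    obtain ⟨i, hi, hi'⟩ := hmem h5 a.2
    obtain ⟨j, hj, hj'⟩ := hmem h5' b.2
    exact ⟨i, hi, j, hj, by rw [hφ, hi', hj']⟩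

/-- each element of `⟨z⟩ × ⟨z'⟩` commutes with an involution -/
theorem five_inv {G : Type*} [Group G] {L : Subgroup G} {z z' f f' t x x' : G} (h1 : z ≠ 1)
    (h5' : z' ^ 5 = 1) (hzz : z * z' = z' * z) (hf : f * z = z ^ 2 * f) (hfz : f * z' = z' * f)
    (hf' : f' * z' = z' ^ 2 * f') (hfz' : f' * z = z * f') (ht2 : t ^ 2 = 1) (ht : t * z = z' * t)
    (htL : t ∈ L) (hfL : f' ∈ L) (hx2 : x ^ 2 = 1) (hx1 : x ≠ 1) (hxz : z * x = x * z) (hxL : x ∈ L)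
    (hx2' : x' ^ 2 = 1) (hx1' : x' ≠ 1) (hxz' : z' * x' = x' * z') (hxL' : x' ∈ L) {i j : ℕ} (hi : i < 5) (hj : j < 5) :
    ∃ u ∈ L, u ^ 2 = 1 ∧ u ≠ 1 ∧ (z ^ i * z' ^ j) * u = u * (z ^ i * z' ^ j) := by
  rcases Nat.eq_zero_or_pos i with rfl | hi0
  · exact ⟨x', hxL', hx2', hx1', by rw [pow_zero, one_mul]; exact ((show Commute z' x' from hxz').pow_left j).eq⟩
  rcases Nat.eq_zero_or_pos j with rfl | hj0
  · exact ⟨x, hxL, hx2, hx1, by rw [pow_zero, mul_one]; exact ((show Commute z x from hxz).pow_left i).eq⟩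
  have ht' : t * z' = z * t := by
    have e : t⁻¹ = t := by rw [inv_eq_iff_mul_eq_one, ← pow_two, ht2]
    have h2 : z' = t * z * t⁻¹ := by rw [ht, mul_inv_cancel_right]
    rw [h2, e]
    calc t * (t * z * t) = (t * t) * (z * t) := by group
      _ = _ := by rw [← pow_two, ht2, one_mul]
  have htc : Commute t (z * z') := by
    show t * (z * z') = z * z' * t
    calc t * (z * z') = (t * z) * z' := by group
      _ = z' * (t * z') := by rw [ht]; group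
      _ = (z' * z) * t := by rw [ht']; group
      _ = _ := by rw [← hzz]
  have ht1 : t ≠ 1 := by
    rintro rfl
    rw [one_mul, mul_one] at ht
    subst ht
    rw [hf, pow_two] at hfz
    have := mul_right_cancel hfz
    rw [mul_eq_left] at this
    exact h1 this
  obtain ⟨k, hk⟩ : ∃ k < 4, (2 ^ k * i) % 5 = j := by
    have h0 : ∀ i < 5, ∀ j < 5, 0 < i → 0 < j → ∃ k < 4, (2 ^ k * i) % 5 = j := by decide
    exact h0 i hi j hj hi0 hj0
  have hc : ∀ k : ℕ, f' ^ k * (z * z') * (f' ^ k)⁻¹ = z * z' ^ 2 ^ k := by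
    intro k
    induction k with
    | zero => simp
    | succ k ih =>
      have e1 : f' ^ (k + 1) * (z * z') * (f' ^ (k + 1))⁻¹ = f' * (f' ^ k * (z * z') * (f' ^ k)⁻¹) * f'⁻¹ := by
        rw [pow_succ']; group
      rw [e1, ih]
      have e2 : f' * (z * z' ^ 2 ^ k) * f'⁻¹ = (f' * z * f'⁻¹) * (f' * z' ^ 2 ^ k * f'⁻¹) := by group
      rw [e2, hfz', mul_inv_cancel_right, pow_of_conj hf', ← pow_mul, ← pow_succ]
  have hpw : z ^ i * z' ^ j = (z * z' ^ 2 ^ k) ^ i := by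
    rw [((show Commute z z' from hzz).pow_right (2 ^ k)).mul_pow, ← pow_mul, ← hk.2, ← pow_eq_pow_mod (2 ^ k * i) h5']
  refine ⟨f' ^ k * t * (f' ^ k)⁻¹, ?_, ?_, ?_, ?_⟩
  · exact L.mul_mem (L.mul_mem (L.pow_mem hfL _) htL) (L.inv_mem (L.pow_mem hfL _))
  · rw [conj_pow, ht2, mul_one, mul_inv_cancel]
  · exact fun h => ht1 (conj_eq_one_iff.1 h)
  · rw [hpw]
    refine Commute.eq (Commute.pow_left ?_ i)
    rw [← hc k]
    exact (SemiconjBy.conj_iff.2 htc.symm)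

/-! ### Conjugacy into a cyclic group -/

theorem conj_zr {m s r : ℕ} (hop : OddPart m s) (hr : r.Prime) (hr2 : r ≠ 2) {z : LL} (hz : z ∈ LM m)
    (hzr : z ^ r = 1) (hz1 : z ≠ 1) (hs : ¬ r ^ 2 ∣ s) {y : LL} (hy : y ∈ LM m) (hyr : y ^ r = 1) :
    ∃ g ∈ LM m, ∃ k < r, g * y * g⁻¹ = z ^ k := by
  have hF : Fact r.Prime := ⟨hr⟩
  have ho : orderOf z = r := orderOf_eq_prime hzr hz1
  obtain ⟨g, hg, h1⟩ := conj_in hop hr hr2 (Q := Subgroup.zpowers z)
    (by rw [Subgroup.zpowers_le]; exact hz) (b := 1) (by rw [Nat.card_zpowers, ho, pow_one]) hs hy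
    (k := 1) (by rw [pow_one]; exact hyr)
  refine ⟨g, hg, ?_⟩
  rw [← mem_powers_iff_mem_zpowers] at h1
  obtain ⟨k, hk⟩ := h1
  exact ⟨k % r, Nat.mod_lt _ hr.pos, by rw [← hk]; exact pow_eq_pow_mod k hzr⟩

/-- no element of order `r` -/
theorem eq_one_of_not_dvd {m s r : ℕ} (hop : OddPart m s) (hr : r.Prime) (hr2 : r ≠ 2) (hs : ¬ r ∣ s) {y : LL}
    (hy : y ∈ LM m) (hyr : y ^ r = 1) : y = 1 := by
  obtain ⟨g, -, h1⟩ := conj_in hop hr hr2 (Q := (⊥ : Subgroup LL)) bot_le (b := 0)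
    (by rw [Subgroup.card_bot, pow_zero]) (by rw [zero_add, pow_one]; exact hs) hy (k := 1) (by rw [pow_one]; exact hyr)
  rw [Subgroup.mem_bot] at h1
  exact conj_eq_one_iff.1 h1

/-- conjugate into a smaller Levi subgroup -/
theorem no_zr {m m' s r : ℕ} (hop : OddPart m s) (hr : r.Prime) (hr2 : r ≠ 2) {z : LL} (hz : z ∈ LM m)
    (hz' : z ∈ LM m') (hzr : z ^ r = 1) (hz1 : z ≠ 1) (hs : ¬ r ^ 2 ∣ s)
    (hsub : ∀ i : Fin 4, Nat.testBit m' i = true → Nat.testBit m i = true)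
    (hne : ∃ i : Fin 4, Nat.testBit m i = true ∧ Nat.testBit m' i ≠ true)
    {y : LL} (hell : Ell c0 h0 T0 X0 (JJ m) y) (hy : y ∈ LM m) (hyr : y ^ r = 1) : False := by
  obtain ⟨g, -, k, -, h1⟩ := conj_zr hop hr hr2 hz hzr hz1 hs hy hyr
  exact not_ell hsub hne hell (g := g) (by rw [h1]; exact Subgroup.pow_mem _ hz' _)

theorem ell_of_pow {J : Set (Fin 4)} {z : LL} {k : ℕ} (h : Ell c0 h0 T0 X0 J (z ^ k)) : Ell c0 h0 T0 X0 J z :=
  fun J' hJ' g hg => h J' hJ' g (Subgroup.pow_mem _ hg k)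

theorem card_Cx_conj_le {G : Type*} [Group G] [Finite G] (g x : G) :
    Nat.card (Cx x) ≤ Nat.card (Cx (g * x * g⁻¹)) := by
  have hm : ∀ c ∈ Cx x, g * c * g⁻¹ ∈ Cx (g * x * g⁻¹) := by
    intro c hc
    rw [mem_Cx] at hc ⊢
    calc g * x * g⁻¹ * (g * c * g⁻¹) = g * (x * c) * g⁻¹ := by group
      _ = g * (c * x) * g⁻¹ := by rw [hc]
      _ = _ := by group
  refine Nat.card_le_card_of_injective (fun c : Cx x => (⟨g * c.1 * g⁻¹, hm c.1 c.2⟩ : Cx (g * x * g⁻¹))) ?_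
  rintro ⟨a, ha⟩ ⟨b, hb⟩ hab
  simp only [Subtype.mk.injEq, mul_left_inj, mul_right_inj] at hab
  exact Subtype.ext hab

theorem card_Cx_conj {G : Type*} [Group G] [Finite G] (g x : G) : Nat.card (Cx (g * x * g⁻¹)) = Nat.card (Cx x) := by
  apply le_antisymm
  · have h := card_Cx_conj_le g⁻¹ (g * x * g⁻¹)
    have e : g⁻¹ * (g * x * g⁻¹) * g⁻¹⁻¹ = x := by group
    rwa [e] at h
  · exact card_Cx_conj_le g x

/-- generators of the same cyclic group of prime order -/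
theorem card_Cx_pow_le {G : Type*} [Group G] [Finite G] {r : ℕ} (hr : r.Prime) {z : G} (hzr : z ^ r = 1) {k : ℕ}
    (hk : k < r) (hk0 : k ≠ 0) : Nat.card (Cx (z ^ k)) ≤ Nat.card (Cx z) := by
  have hco : Nat.Coprime k r := (Nat.coprime_of_lt_prime hk0 hk hr).symm
  obtain ⟨j, hj⟩ : ∃ j, (z ^ k) ^ j = z := by
    obtain ⟨j, -, hj⟩ := Nat.exists_mul_mod_eq_one_of_coprime hco hr.one_lt
    refine ⟨j, ?_⟩
    rw [← pow_mul, pow_eq_pow_mod (k * j) hzr, hj, pow_one]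
  refine Nat.card_le_card_of_injective (Subgroup.inclusion (?_ : Cx (z ^ k) ≤ Cx z)) (Subgroup.inclusion_injective _)
  intro c hc
  rw [mem_Cx] at hc ⊢
  rw [← hj]
  exact ((show Commute (z ^ k) c from hc).pow_left j).eq

/-- **the class of a cyclic elliptic type** -/
theorem cyc_case {m s r c : ℕ} (hop : OddPart m s) (hr : r.Prime) (hr2 : r ≠ 2) {z : LL} (hz : z ∈ LM m)
    (hzr : z ^ r = 1) (hz1 : z ≠ 1) (hs : ¬ r ^ 2 ∣ s) (hb : Ell c0 h0 T0 X0 (JJ m) z → Nat.card (Cx z) ≤ c)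
    {y : LL} (hell : Ell c0 h0 T0 X0 (JJ m) y) (hy : y ∈ LM m) (hyr : y ^ r = 1) (hy1 : y ≠ 1) :
    Nat.card (Cx y) ≤ c := by
  obtain ⟨g, -, k, hk, h1⟩ := conj_zr hop hr hr2 hz hzr hz1 hs hy hyr
  have hk0 : k ≠ 0 := by
    rintro rfl
    rw [pow_zero] at h1
    exact conj_ne hy1 h1
  have h2 := hell.conj' g
  rw [h1] at h2
  rw [← card_Cx_conj g y, h1]
  exact (card_Cx_pow_le hr hzr hk hk0).trans (hb (ell_of_pow h2))

/-! ### The whole group -/

theorem op15 : OddPart 15 (3 ^ 6 * 5 ^ 2 * 7 ^ 2 * 13 * 17) := by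
  refine ⟨24, ?_⟩
  have h1 : Nat.card (LM 15) ∣ Nat.card LL := Subgroup.card_subgroup_dvd_card _
  rw [Cfsg.Agent.FourTwo.Classes.card_LL] at h1
  exact h1.trans (by norm_num)

/-- the words of order five -/
def Z5 : List ℕ := [27, 25, 27, 20, 27, 25, 22, 25]
def Z5' : List ℕ := [29, 41, 29, 18, 29, 41, 6, 41]
def F5 : List ℕ := [25, 27, 20, 27, 25, 22, 25, 27, 27, 20, 27]
def F5' : List ℕ := [41, 29, 18, 29, 41, 6, 41, 29, 29, 18, 29]
/-- `n0 n1 n3 n2 n1 n0 n2 n3` -/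
def T5 : List ℕ := [33, 14, 33, 27, 20, 27, 24, 23, 24, 25, 22, 25, 27, 20, 27, 33, 14, 33, 25, 22, 25, 24, 23, 24]

theorem wpow5 {a : List ℕ} (h : chk (a ++ (a ++ (a ++ (a ++ a)))) [] = true) : wd a ^ 5 = 1 := by
  have e : wd a ^ 5 = wd a * (wd a * (wd a * (wd a * wd a))) := by
    simp only [pow_succ, pow_zero, one_mul, mul_assoc]
  rw [e, ← wd_append, ← wd_append, ← wd_append, ← wd_append, wd_eq _ _ h]
  unfold wd
  rfl

theorem z5p : wd Z5 ^ 5 = 1 := wpow5 (by decide +kernel)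
theorem z5p' : wd Z5' ^ 5 = 1 := wpow5 (by decide +kernel)

theorem no_five {y : LL} (hz1 : wd Z5 ≠ 1) (hell : Ell c0 h0 T0 X0 (JJ 15) y) (hy : y ∈ LM 15) (hy5 : y ^ 5 = 1) :
    False := by
  have hzz : wd Z5 * wd Z5' = wd Z5' * wd Z5 := wcomm (by decide +kernel)
  have hf : wd F5 * wd Z5 = wd Z5 ^ 2 * wd F5 := by
    rw [pow_two, ← wd_append, ← wd_append, ← wd_append]; exact wd_eq _ _ (by decide +kernel)
  have hf' : wd F5' * wd Z5' = wd Z5' ^ 2 * wd F5' := by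
    rw [pow_two, ← wd_append, ← wd_append, ← wd_append]; exact wd_eq _ _ (by decide +kernel)
  have hfz : wd F5 * wd Z5' = wd Z5' * wd F5 := wcomm (by decide +kernel)
  have hfz' : wd F5' * wd Z5 = wd Z5 * wd F5' := wcomm (by decide +kernel)
  have ht2 : wd T5 ^ 2 = 1 := wpow2 (by decide +kernel)
  have ht : wd T5 * wd Z5 = wd Z5' * wd T5 := wmul (by decide +kernel)
  have hz1' : wd Z5' ≠ 1 := by
    intro h
    rw [h, one_mul] at ht
    exact hz1 (mul_eq_left.1 ht)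
  obtain ⟨Q, hQ, hQL, hQ'⟩ := five_sub z5p hz1 z5p' hz1' hzz hf hfz
  have hm1 : wd Z5 ∈ LM 15 := wd_mem_of (by decide +kernel)
  have hm2 : wd Z5' ∈ LM 15 := wd_mem_of (by decide +kernel)
  obtain ⟨g, hg, h1⟩ := conj_in op15 (by norm_num : Nat.Prime 5) (by norm_num) (hQL _ hm1 hm2) (b := 2) hQ
    (by norm_num) hy (k := 1) (by rw [pow_one]; exact hy5)
  obtain ⟨i, hi, j, hj, h2⟩ := hQ' _ h1
  have hx : ∀ r < 48, wd [r] ≠ 1 := fun r hr h => by
    rw [wd_one] at h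
    exact Cfsg.Agent.FourTwo.BN.x_ne_one hr h
  obtain ⟨u, huL, hu2, hu1, hu⟩ := five_inv (L := LM 15) hz1 z5p' hzz hf hfz hf' hfz' ht2 ht
    (wd_mem_of (by decide +kernel)) (wd_mem_of (by decide +kernel)) (x := wd [29]) (x' := wd [27])
    (by rw [wd_one, pow_two, x_mul_self]) (hx _ (by norm_num)) (wcomm (by decide +kernel)) (wd_mem_of (by decide +kernel))
    (by rw [wd_one, pow_two, x_mul_self]) (hx _ (by norm_num)) (wcomm (by decide +kernel)) (wd_mem_of (by decide +kernel))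
    hi hj
  have hell' := hell.conj' g
  have hy' : g * y * g⁻¹ ∈ LM 15 := Subgroup.mul_mem _ (Subgroup.mul_mem _ hg hy) (Subgroup.inv_mem _ hg)
  rw [h2] at hell' hy'
  exact comm_false hell' hy' huL hu2 hu1 hu

end Cfsg.Agent.H874.TS
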