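import Cfsg.Agent.H874.TS.Ev
import Cfsg.Agent.H874.TS.Five

/-!
# `F₄(2)` (helper874, S5745): the centralizers of the elements of order 3, 5, 7
-/

set_option autoImplicit false
set_option linter.unusedSectionVars false
set_option maxRecDepth 100000

namespace Cfsg.Agent.H874.TS

open CoxeterSystem Cfsg.Agent.ChevalleyStructure.CoxeterGeom Cfsg.Agent.Tits.Roots Cfsg.Agent.Tits.Core
  Cfsg.Agent.Nodes.Reps Cfsg.Agent.Nodes.BNOf
  Cfsg.Agent.Nodes.StabComb Cfsg.Agent.Nodes.Bruhat Cfsg.Agent.Nodes.LeviDec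
open Cfsg.Lie
open Cfsg.Agent.FourTwo.Base Cfsg.Agent.FourTwo.Classes
open Cfsg.Agent.H82.TS

attribute [local irreducible] wd

theorem JJ_univ : JJ 15 = Set.univ := by
  ext i
  simp only [Set.mem_univ, iff_true]
  show Nat.testBit 15 i = true
  fin_cases i <;> decide

/-- every subset of the nodes is a mask -/
theorem exists_mask (J : Set (Fin 4)) : ∃ m < 16, J = JJ m := by
  classical
  have h0 : ∀ p : Fin 4 → Bool, ∃ m < 16, ∀ i : Fin 4, Nat.testBit m i = p i := by decide +kernel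
  obtain ⟨m, hm, h1⟩ := h0 fun i => decide (i ∈ J)
  refine ⟨m, hm, ?_⟩
  ext i
  show i ∈ J ↔ Nat.testBit m i = true
  rw [h1 i, decide_eq_true_eq]

/-- **the reduction** -/
theorem exists_mask_ell {r : ℕ} (hr : r.Prime) (hr2 : r ≠ 2) {x : LL} (hx : x ^ r = 1) (hx1 : x ≠ 1) :
    ∃ g : LL, ∃ m < 16, g * x * g⁻¹ ∈ LM m ∧ Ell c0 h0 T0 X0 (JJ m) (g * x * g⁻¹) ∧ (g * x * g⁻¹) ^ r = 1 ∧
      g * x * g⁻¹ ≠ 1 := by
  have hrp : ¬ r ∣ 2 := fun h => hr2 ((Nat.prime_dvd_prime_iff_eq hr Nat.prime_two).1 h)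
  obtain ⟨g, J, h1, h2⟩ := Cfsg.Agent.H27.TS.Ex.exists_ell rg hr hrp (x := x) (by rw [GG_top]; exact Subgroup.mem_top x)
    (k := 1) (by rw [pow_one]; exact hx)
  obtain ⟨m, hm, rfl⟩ := exists_mask J
  have e : g⁻¹ * x * g = g⁻¹ * x * g⁻¹⁻¹ := by rw [inv_inv]
  rw [e] at h1 h2
  exact ⟨g⁻¹, m, hm, h1, h2, by rw [conj_pow, hx, mul_one, mul_inv_cancel], conj_ne hx1⟩

/-- the conclusion for one type -/
theorem finish {m s r : ℕ} (hop : OddPart m s) (hs : 0 < s) {w : List (Bool × ℕ)} {Fl : List ℕ} {RY : List ℕ} {B : ℕ}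
    (hR : chkR m w Fl RY = true) (hB : sumW m Fl = B) (hr : r.Prime) (hr2 : r ≠ 2) {t : LL} (ht : we w = t)
    (htL : t ∈ LM m) {y : LL} (hyr : y ^ r = 1) (hell : Ell c0 h0 T0 X0 (JJ m) y) (hc : ∃ g, g * y * g⁻¹ = t) :
    Nat.card (Cx y) ≤ s * 2 ^ Fl.length * B := by
  obtain ⟨g, h1⟩ := hc
  have h2 := hell.conj' g
  have h3 : t ^ r = 1 := by rw [← h1, conj_pow, hyr, mul_one, mul_inv_cancel]
  rw [h1] at h2
  rw [← card_Cx_conj g y, h1]
  subst ht
  exact bound hR hB hr hr2 (k := 1) (by rw [pow_one]; exact h3) h2 htL (Nat.le_of_dvd hs (cent_dvd hop h2 htL))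

/-- the same for a cyclic type -/
theorem finish' {m s r : ℕ} (hop : OddPart m s) (hs : 0 < s) {w : List (Bool × ℕ)} {Fl : List ℕ} {RY : List ℕ} {B : ℕ}
    (hR : chkR m w Fl RY = true) (hB : sumW m Fl = B) (hr : r.Prime) (hr2 : r ≠ 2) {t : LL} (ht : we w = t)
    (htL : t ∈ LM m) (htr : t ^ r = 1) (hell : Ell c0 h0 T0 X0 (JJ m) t) :
    Nat.card (Cx t) ≤ s * 2 ^ Fl.length * B :=
  finish hop hs hR hB hr hr2 ht htL htr hell ⟨1, by group⟩

/-! ### Elliptic elements of the whole group -/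

theorem LM15 : LM 15 = ⊤ := by
  rw [LM, JJ_univ, LJ_univ, GG_top]

theorem ell_top {y : LL} (hell : Ell c0 h0 T0 X0 (JJ 15) y) :
    Nat.card (Cx y) ∣ 3 ^ 6 * 5 ^ 2 * 7 ^ 2 * 13 * 17 := by
  have h := cent_dvd op15 hell (by rw [LM15]; exact Subgroup.mem_top y)
  rwa [LM15, inf_top_eq] at h

theorem exists_comm {G : Type*} [Group G] [Finite G] {y : G} {p : ℕ} (hp : p.Prime) (h : p ∣ Nat.card (Cx y)) :
    ∃ c : G, orderOf c = p ∧ y * c = c * y := by
  have hF : Fact p.Prime := ⟨hp⟩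
  obtain ⟨⟨c, hc⟩, h1⟩ := exists_prime_orderOf_dvd_card' p h
  exact ⟨c, by rw [← h1, ← Subgroup.orderOf_coe], mem_Cx.1 hc⟩

/-- an element of prime order does not commute with an element whose centralizer has a different prime order -/
theorem not_dvd_prime {G : Type*} [Group G] [Finite G] {y : G} {r p : ℕ} (hr : r.Prime) (hy : orderOf y = r)
    (hp : p.Prime) (hrp : r ≠ p)
    (hc : ∀ c : G, orderOf c = p → Nat.card (Subgroup.centralizer ({c} : Set G)) = p) : ¬ p ∣ Nat.card (Cx y) := by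
  intro h
  obtain ⟨c, h1, h2⟩ := exists_comm hp h
  have h3 : y ∈ Subgroup.centralizer ({c} : Set G) := mem_Cx.2 h2.symm
  have h4 : orderOf y ∣ p := by
    have h5 := orderOf_dvd_natCard (⟨y, h3⟩ : Subgroup.centralizer ({c} : Set G))
    rwa [hc c h1, ← Subgroup.orderOf_coe] at h5
  rw [hy] at h4
  exact hrp ((Nat.prime_dvd_prime_iff_eq hr hp).1 h4)

theorem ell_dvd {y : LL} (hell : Ell c0 h0 T0 X0 (JJ 15) y) {r : ℕ} (hr : r.Prime) (hy : orderOf y = r)
    (h13 : r ≠ 13) (h17 : r ≠ 17) : Nat.card (Cx y) ∣ 3 ^ 6 * 5 ^ 2 * 7 ^ 2 := by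
  have h1 := ell_top hell
  have n13 := not_dvd_prime hr hy (p := 13) (by norm_num) h13 fun c hc => Cfsg.Agent.H23.OZ.F42.cent13 hc
  have n17 := not_dvd_prime hr hy (p := 17) (by norm_num) h17 fun c hc => Cfsg.Agent.H23.OZ.F42.cent17 hc
  have h2 : Nat.card (Cx y) ∣ 3 ^ 6 * 5 ^ 2 * 7 ^ 2 * 13 := by
    refine Nat.Coprime.dvd_of_dvd_mul_right ?_ h1
    exact ((Nat.Prime.coprime_iff_not_dvd (by norm_num : Nat.Prime 17)).2 n17).symm
  refine Nat.Coprime.dvd_of_dvd_mul_right ?_ h2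
  exact ((Nat.Prime.coprime_iff_not_dvd (by norm_num : Nat.Prime 13)).2 n13).symm

/-! ### Order three -/

theorem mod_ne {a b : ℕ} (h : Nat.beq (b % a) 0 = false) : ¬ a ∣ b := by
  intro h1
  rw [Nat.mod_eq_zero_of_dvd h1] at h
  exact Bool.noConfusion h

theorem pr3 : Nat.Prime 3 := Nat.prime_three
theorem pr5 : Nat.Prime 5 := by norm_num
theorem pr7 : Nat.Prime 7 := by norm_num

theorem nd5 : ¬ 3 ^ 5 ∣ 2835 := by norm_num
theorem nd3 : ¬ 3 ^ 3 ∣ 63 := by norm_num
theorem nd2 : ¬ 3 ^ 2 ∣ 21 := by norm_num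

theorem one_case {m a : ℕ} (hop : OddPart m 3) {w : List (Bool × ℕ)} {Fl : List ℕ} {RY : List ℕ}
    (hR : chkR m w Fl RY = true) (hB : sumW m Fl = 2835) (hl : Fl.length = 9) (ht : we w = sg a)
    (ha : inB m a = true) (h3 : chk (W a ++ (W a ++ W a)) [] = true)
    (hn : chk ([a, 47 - a, a] ++ (W a ++ W a)) (W a ++ [a, 47 - a, a]) = true)
    {y : LL} (hell : Ell c0 h0 T0 X0 (JJ m) y) (hy : y ∈ LM m) (hy3 : y ^ 3 = 1) (hy1 : y ≠ 1) :
    (∃ g, g * y * g⁻¹ = sg a) ∧ Nat.card (Cx y) ≤ 4354560 := by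
  have h1 := one_node hop ha h3 hn hy hy3 hy1
  refine ⟨h1, (finish hop (by norm_num) hR hB pr3 (by norm_num) ht (sg_mem ha) hy3 hell h1).trans ?_⟩
  rw [hl]
  norm_num

theorem two_case {m ma mb a b : ℕ} (hop : OddPart m 9) {w : List (Bool × ℕ)} {Fl : List ℕ} {RY : List ℕ}
    (hR : chkR m w Fl RY = true) (hB : sumW m Fl = 81) (hl : Fl.length = 6) (ht : we w = sg a * sg b)
    (ha : inB m a = true) (hb : inB m b = true)
    (h : chk2 a b = true) (hP : chkP a b = true) (ha' : inB ma a = true) (hb' : inB mb b = true)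
    (hsa : ∀ i : Fin 4, Nat.testBit ma i = true → Nat.testBit m i = true)
    (hsa' : ∃ i : Fin 4, Nat.testBit m i = true ∧ Nat.testBit ma i ≠ true)
    (hsb : ∀ i : Fin 4, Nat.testBit mb i = true → Nat.testBit m i = true)
    (hsb' : ∃ i : Fin 4, Nat.testBit m i = true ∧ Nat.testBit mb i ≠ true)
    {y : LL} (hell : Ell c0 h0 T0 X0 (JJ m) y) (hy : y ∈ LM m) (hy3 : y ^ 3 = 1) :
    (∃ g, g * y * g⁻¹ = sg a * sg b) ∧ Nat.card (Cx y) ≤ 46656 := by
  have h1 := two_nodes hop ha hb h hP ha' hb' hsa hsa' hsb hsb' hell hy hy3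
  refine ⟨h1, (finish hop (by norm_num) hR hB pr3 (by norm_num) ht
    (Subgroup.mul_mem _ (sg_mem ha) (sg_mem hb)) hy3 hell h1).trans ?_⟩
  rw [hl]
  norm_num

/-- the possibilities for an element of order three -/
def Kind (x : LL) : Prop :=
  (∃ a, (a = 33 ∨ a = 27 ∨ a = 25 ∨ a = 24) ∧ (∃ g, g * x * g⁻¹ = sg a) ∧ Nat.card (Cx x) ≤ 4354560) ∨
    (∃ a b, ((a = 33 ∧ b = 25) ∨ (a = 33 ∧ b = 24) ∨ (a = 27 ∧ b = 24)) ∧ (∃ g, g * x * g⁻¹ = sg a * sg b) ∧
      Nat.card (Cx x) ≤ 46656) ∨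
    Nat.card (Cx x) ∣ 3 ^ 6 * 5 ^ 2 * 7 ^ 2

theorem kind_ell {m : ℕ} (hm : m < 16) {y : LL} (hell : Ell c0 h0 T0 X0 (JJ m) y) (hy : y ∈ LM m) (hy3 : y ^ 3 = 1)
    (hy1 : y ≠ 1) : Kind y := by
  interval_cases m
  · exact absurd (eq_one_of_not_dvd op0 pr3 (by norm_num) (by norm_num) hy hy3) hy1
  · exact Or.inl ⟨33, by simp, one_case op1 chk1 sum1 rfl we1 (by decide +kernel) (by decide +kernel) (by decide +kernel)
      hell hy hy3 hy1⟩
  · exact Or.inl ⟨27, by simp, one_case op2 chk2' sum2 rfl we2 (by decide +kernel) (by decide +kernel)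
      (by decide +kernel) hell hy hy3 hy1⟩
  · exact (inv_of_zp (m' := 1) (a := 33) op3 (by decide +kernel) (by decide +kernel) (by decide +kernel) nd2 (by decide)
      (by decide) hell hy hy3).elim
  · exact Or.inl ⟨25, by simp, one_case op4 chk4 sum4 rfl we4 (by decide +kernel) (by decide +kernel)
      (by decide +kernel) hell hy hy3 hy1⟩
  · exact Or.inr (Or.inl ⟨33, 25, by simp, two_case (ma := 1) (mb := 4) op5 chk5 sum5 rfl
      (by rw [we_append, we1, we4]) (by decide +kernel)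
      (by decide +kernel) (by decide +kernel) (by decide +kernel) (by decide +kernel) (by decide +kernel) (by decide)
      (by decide) (by decide) (by decide) hell hy hy3⟩)
  · exact (no_six hell hy hy3).elim
  · exact (no_cyc chkC7 op7 nd5 hell hy hy3).elim
  · exact Or.inl ⟨24, by simp, one_case op8 chk8 sum8 rfl we8 (by decide +kernel) (by decide +kernel)
      (by decide +kernel) hell hy hy3 hy1⟩
  · exact Or.inr (Or.inl ⟨33, 24, by simp, two_case (ma := 1) (mb := 8) op9 chk9 sum9 rfl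
      (by rw [we_append, we1, we8]) (by decide +kernel)
      (by decide +kernel) (by decide +kernel) (by decide +kernel) (by decide +kernel) (by decide +kernel) (by decide)
      (by decide) (by decide) (by decide) hell hy hy3⟩)
  · exact Or.inr (Or.inl ⟨27, 24, by simp, two_case (ma := 2) (mb := 8) op10 chk10 sum10 rfl
      (by rw [we_append, we2, we8]) (by decide +kernel)
      (by decide +kernel) (by decide +kernel) (by decide +kernel) (by decide +kernel) (by decide +kernel) (by decide)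
      (by decide) (by decide) (by decide) hell hy hy3⟩)
  · exact (inv_of_two (m' := 9) (a := 33) (b := 24) op11 (by decide +kernel) (by decide +kernel) (by decide +kernel)
      (by decide +kernel) (by decide +kernel) nd3 (by decide) (by decide) hell hy hy3).elim
  · exact (inv_of_zp (m' := 4) (a := 25) op12 (by decide +kernel) (by decide +kernel) (by decide +kernel) nd2 (by decide)
      (by decide) hell hy hy3).elim
  · exact (inv_of_two (m' := 9) (a := 33) (b := 24) op13 (by decide +kernel) (by decide +kernel) (by decide +kernel)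
      (by decide +kernel) (by decide +kernel) nd3 (by decide) (by decide) hell hy hy3).elim
  · exact (no_cyc chkC14 op14 nd5 hell hy hy3).elim
  · exact Or.inr (Or.inr (ell_dvd hell pr3 (orderOf_eq_prime hy3 hy1) (by norm_num) (by norm_num)))

/-- **Elements of order three of `F₄(2)`.** -/
theorem kind {x : LL} (hx : orderOf x = 3) : Kind x := by
  have hx3 : x ^ 3 = 1 := by rw [← hx]; exact pow_orderOf_eq_one x
  have hx1 : x ≠ 1 := by rintro rfl; rw [orderOf_one] at hx; omega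
  obtain ⟨g, m, hm, h1, h2, h3, h4⟩ := exists_mask_ell pr3 (by norm_num) hx3 hx1
  have e : ∀ a : LL, a * (g * x * g⁻¹) * a⁻¹ = (a * g) * x * (a * g)⁻¹ := fun a => by group
  rcases kind_ell hm h2 h1 h3 h4 with ⟨a, ha, ⟨g', hg'⟩, h5⟩ | ⟨a, b, hab, ⟨g', hg'⟩, h5⟩ | h5
  · exact Or.inl ⟨a, ha, ⟨g' * g, by rw [← e, hg']⟩, by rwa [card_Cx_conj] at h5⟩
  · exact Or.inr (Or.inl ⟨a, b, hab, ⟨g' * g, by rw [← e, hg']⟩, by rwa [card_Cx_conj] at h5⟩)
  · exact Or.inr (Or.inr (by rwa [card_Cx_conj] at h5))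

theorem two_dvd_comm {G : Type*} [Group G] [Finite G] {x g t u : G} (h : g * x * g⁻¹ = t) (hu : t * u = u * t)
    (hu2 : u ^ 2 = 1) (hu1 : u ≠ 1) : 2 ∣ Nat.card (Cx x) := by
  rw [← card_Cx_conj g x, h]
  have h1 : orderOf u = 2 := orderOf_eq_prime hu2 hu1
  have h2 := orderOf_dvd_natCard (⟨u, mem_Cx.2 hu⟩ : Cx t)
  rwa [← Subgroup.orderOf_coe, h1] at h2

theorem two_dvd_root {x g : LL} {w : List ℕ} {r : ℕ} (h : g * x * g⁻¹ = wd w) (hr : r < 48)
    (hc : chk (w ++ [r]) ([r] ++ w) = true) : 2 ∣ Nat.card (Cx x) :=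
  two_dvd_comm h (wcomm hc) (by rw [wd_one, pow_two, x_mul_self]) fun h1 => by
    rw [wd_one] at h1
    exact Cfsg.Agent.FourTwo.BN.x_ne_one hr h1

theorem two_dvd_one {x : LL} {a : ℕ} (ha : a = 33 ∨ a = 27 ∨ a = 25 ∨ a = 24) (h : ∃ g, g * x * g⁻¹ = sg a) :
    2 ∣ Nat.card (Cx x) := by
  obtain ⟨g, h⟩ := h
  rcases ha with rfl | rfl | rfl | rfl
  · exact two_dvd_root (w := W 33) (r := 25) h (by norm_num) (by decide +kernel)
  · exact two_dvd_root (w := W 27) (r := 24) h (by norm_num) (by decide +kernel)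
  · exact two_dvd_root (w := W 25) (r := 33) h (by norm_num) (by decide +kernel)
  · exact two_dvd_root (w := W 24) (r := 33) h (by norm_num) (by decide +kernel)

theorem two_dvd_two {x : LL} {a b : ℕ} (ha : (a = 33 ∧ b = 25) ∨ (a = 33 ∧ b = 24) ∨ (a = 27 ∧ b = 24))
    (h : ∃ g, g * x * g⁻¹ = sg a * sg b) : 2 ∣ Nat.card (Cx x) := by
  obtain ⟨g, h⟩ := h
  have e : sg a * sg b = wd (W a ++ W b) := (wd_append _ _).symm
  rw [e] at h
  rcases ha with ⟨rfl, rfl⟩ | ⟨rfl, rfl⟩ | ⟨rfl, rfl⟩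
  · exact two_dvd_root (r := 47) h (by norm_num) (by decide +kernel)
  · exact two_dvd_root (r := 45) h (by norm_num) (by decide +kernel)
  · exact two_dvd_root (r := 32) h (by norm_num) (by decide +kernel)

/-- **Order three, even centralizer.** -/
theorem three {x : LL} (hx : orderOf x = 3) (h2 : 2 ∣ Nat.card (Cx x)) :
    (∃ a, (a = 33 ∨ a = 27 ∨ a = 25 ∨ a = 24) ∧ (∃ g, g * x * g⁻¹ = sg a) ∧ Nat.card (Cx x) ≤ 4354560) ∨
    (∃ a b, ((a = 33 ∧ b = 25) ∨ (a = 33 ∧ b = 24) ∨ (a = 27 ∧ b = 24)) ∧ (∃ g, g * x * g⁻¹ = sg a * sg b) ∧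
      Nat.card (Cx x) ≤ 46656) := by
  rcases kind hx with h | h | h
  · exact Or.inl h
  · exact Or.inr h
  · exact absurd (h2.trans h) (by norm_num)

/-- **Order three, odd centralizer.** -/
theorem three_odd {x : LL} (hx : orderOf x = 3) (h2 : ¬ 2 ∣ Nat.card (Cx x)) : Nat.card (Cx x) ≤ 893025 := by
  rcases kind hx with ⟨a, ha, h, -⟩ | ⟨a, b, hab, h, -⟩ | h
  · exact absurd (two_dvd_one ha h) h2
  · exact absurd (two_dvd_two hab h) h2
  · exact (Nat.le_of_dvd (by norm_num) h).trans (by norm_num)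

/-! ### Order five -/

theorem z5ne : wd Z5 ≠ 1 := by
  have h1 : we w6 = wd Z5 := we_eq (by decide +kernel) (by decide +kernel)
  rw [← h1]
  exact we_ne_one 8 (by decide +kernel) (by decide +kernel)

theorem five_of {c : ℕ} (hc : Ell c0 h0 T0 X0 (JJ 6) (wd Z5) → Nat.card (Cx (wd Z5) ⊓ LM 6 : Subgroup LL) ≤ c)
    {x : LL} (hx : orderOf x = 5) : Nat.card (Cx x) ≤ c * 720 := by
  have hx5 : x ^ 5 = 1 := by rw [← hx]; exact pow_orderOf_eq_one x
  have hx1 : x ≠ 1 := by rintro rfl; rw [orderOf_one] at hx; omega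
  obtain ⟨g, m, hm, h1, h2, h3, h4⟩ := exists_mask_ell pr5 (by norm_num) hx5 hx1
  rw [← card_Cx_conj g x]
  generalize g * x * g⁻¹ = y at h1 h2 h3 h4
  have no : ∀ {s : ℕ}, OddPart m s → ¬ 5 ∣ s → False := fun hop hs =>
    h4 (eq_one_of_not_dvd hop pr5 (by norm_num) hs h1 h3)
  have hz7 : wd Z5 ∈ LM 7 := wd_mem_of (by decide +kernel)
  have hz14 : wd Z5 ∈ LM 14 := wd_mem_of (by decide +kernel)
  have hz6 : wd Z5 ∈ LM 6 := wd_mem_of (by decide +kernel)
  interval_cases m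
  · exact (no op0 (by norm_num)).elim
  · exact (no op1 (by norm_num)).elim
  · exact (no op2 (by norm_num)).elim
  · exact (no op3 (by norm_num)).elim
  · exact (no op4 (by norm_num)).elim
  · exact (no op5 (by norm_num)).elim
  · refine cyc_case op6 pr5 (by norm_num) hz6 z5p z5ne (by norm_num) (fun hell => ?_) h2 h1 h3 h4
    have e : we w6 = wd Z5 := we_eq (by decide +kernel) (by decide +kernel)
    have hc' := hc hell
    rw [← e] at hell hz6 hc' ⊢
    refine (bound chk6 sum6 pr5 (by norm_num) (k := 1) (by rw [pow_one, e]; exact z5p) hell hz6 hc').trans ?_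
    show c * 2 ^ 4 * 45 ≤ c * 720
    omega
  · exact (no_zr (m' := 6) op7 pr5 (by norm_num) hz7 hz6 z5p z5ne (by norm_num) (by decide) (by decide) h2 h1 h3).elim
  · exact (no op8 (by norm_num)).elim
  · exact (no op9 (by norm_num)).elim
  · exact (no op10 (by norm_num)).elim
  · exact (no op11 (by norm_num)).elim
  · exact (no op12 (by norm_num)).elim
  · exact (no op13 (by norm_num)).elim
  · exact (no_zr (m' := 6) op14 pr5 (by norm_num) hz14 hz6 z5p z5ne (by norm_num) (by decide) (by decide) h2 h1 h3).elim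
  · exact (no_five z5ne h2 h1 h3).elim

/-- **Elements of order five.** -/
theorem five {x : LL} (hx : orderOf x = 5) : Nat.card (Cx x) ≤ 32400 :=
  (five_of (c := 45) (fun hell => Nat.le_of_dvd (by norm_num) (cent_dvd op6 hell (wd_mem_of (by decide +kernel)))) hx).trans
    (by norm_num)

/-! ### Order seven -/

def Z7 : List ℕ := [33, 33, 14, 33, 27, 20, 27]
def Z7' : List ℕ := [25, 25, 22, 25, 24, 23, 24]

theorem wpow7 {a : List ℕ} (h : chk (a ++ (a ++ (a ++ (a ++ (a ++ (a ++ a)))))) [] = true) : wd a ^ 7 = 1 := by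
  have e : wd a ^ 7 = wd a * (wd a * (wd a * (wd a * (wd a * (wd a * wd a))))) := by
    simp only [pow_succ, pow_zero, one_mul, mul_assoc]
  rw [e, ← wd_append, ← wd_append, ← wd_append, ← wd_append, ← wd_append, ← wd_append, wd_eq _ _ h]
  unfold wd
  rfl

theorem z7p : wd Z7 ^ 7 = 1 := wpow7 (by decide +kernel)
theorem z7p' : wd Z7' ^ 7 = 1 := wpow7 (by decide +kernel)

theorem e7 : we w3 = wd Z7 := we_eq (by decide +kernel) (by decide +kernel)
theorem e7' : we w12 = wd Z7' := we_eq (by decide +kernel) (by decide +kernel)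

theorem z7ne : wd Z7 ≠ 1 := by
  rw [← e7]
  exact we_ne_one 2 (by decide +kernel) (by decide +kernel)

theorem z7ne' : wd Z7' ≠ 1 := by
  rw [← e7']
  exact we_ne_one 8 (by decide +kernel) (by decide +kernel)

theorem comm_order {G : Type*} [Group G] {c y : G} {a b : ℕ} (ha : orderOf c = a) (hb : orderOf y = b)
    (hab : Nat.Coprime a b) (h : y * c = c * y) : a ∣ orderOf (c * y) ∧ b ∣ orderOf (c * y) := by
  have h8 : orderOf (c * y) = orderOf c * orderOf y :=
    (show Commute c y from h.symm).orderOf_mul_eq_mul_orderOf_of_coprime (by rw [ha, hb]; exact hab)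
  rw [h8, ha, hb]
  exact ⟨Dvd.intro _ rfl, Dvd.intro_left _ rfl⟩

theorem ell_seven {y : LL} (h2 : Ell c0 h0 T0 X0 (JJ 15) y) (hy : orderOf y = 7) : Nat.card (Cx y) ≤ 35721 := by
  have h5 := ell_dvd h2 pr7 hy (by norm_num) (by norm_num)
  have n5 : ¬ 5 ∣ Nat.card (Cx y) := by
    intro h
    obtain ⟨c, h6, h7⟩ := exists_comm pr5 h
    have h8 := comm_order h6 hy (by norm_num) h7
    exact Cfsg.Agent.H23.OZ.F42.no35 _ h8
  have h6 : Nat.card (Cx y) ∣ 3 ^ 6 * 7 ^ 2 := by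
    have h7 : Nat.card (Cx y) ∣ 3 ^ 6 * 7 ^ 2 * 5 ^ 2 := by
      refine h5.trans ?_
      norm_num
    refine Nat.Coprime.dvd_of_dvd_mul_right ?_ h7
    exact (Nat.Coprime.pow_left 2 ((Nat.Prime.coprime_iff_not_dvd pr5).2 n5)).symm
  exact Nat.le_of_dvd (by norm_num) h6

set_option maxHeartbeats 1000000 in
/-- **Elements of order seven.** -/
theorem seven {x : LL} (hx : orderOf x = 7) : Nat.card (Cx x) ≤ 35721 := by
  have hx7 : x ^ 7 = 1 := by rw [← hx]; exact pow_orderOf_eq_one x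
  have hx1 : x ≠ 1 := by rintro rfl; rw [orderOf_one] at hx; omega
  obtain ⟨g, m, hm, h1, h2, h3, h4⟩ := exists_mask_ell pr7 (by norm_num) hx7 hx1
  rw [← card_Cx_conj g x]
  generalize g * x * g⁻¹ = y at h1 h2 h3 h4
  have no : ∀ {s : ℕ}, OddPart m s → ¬ 7 ∣ s → False := fun hop hs =>
    h4 (eq_one_of_not_dvd hop pr7 (by norm_num) hs h1 h3)
  have hz3 : wd Z7 ∈ LM 3 := wd_mem_of (by decide +kernel)
  have hz7 : wd Z7 ∈ LM 7 := wd_mem_of (by decide +kernel)
  have hz11 : wd Z7 ∈ LM 11 := wd_mem_of (by decide +kernel)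
  have hz12 : wd Z7' ∈ LM 12 := wd_mem_of (by decide +kernel)
  have hz13 : wd Z7' ∈ LM 13 := wd_mem_of (by decide +kernel)
  have hz14 : wd Z7' ∈ LM 14 := wd_mem_of (by decide +kernel)
  interval_cases m
  · exact (no op0 (by norm_num)).elim
  · exact (no op1 (by norm_num)).elim
  · exact (no op2 (by norm_num)).elim
  · refine cyc_case op3 pr7 (by norm_num) hz3 z7p z7ne (by norm_num) (fun hell => ?_) h2 h1 h3 h4
    exact (finish' op3 (by norm_num) chk3 sum3 pr7 (by norm_num) e7 hz3 z7p hell).trans (by decide)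
  · exact (no op4 (by norm_num)).elim
  · exact (no op5 (by norm_num)).elim
  · exact (no op6 (by norm_num)).elim
  · exact (no_zr (m' := 3) op7 pr7 (by norm_num) hz7 hz3 z7p z7ne (by norm_num) (by decide) (by decide) h2 h1 h3).elim
  · exact (no op8 (by norm_num)).elim
  · exact (no op9 (by norm_num)).elim
  · exact (no op10 (by norm_num)).elim
  · exact (no_zr (m' := 3) op11 pr7 (by norm_num) hz11 hz3 z7p z7ne (by norm_num) (by decide) (by decide) h2 h1 h3).elim
  · refine cyc_case op12 pr7 (by norm_num) hz12 z7p' z7ne' (by norm_num) (fun hell => ?_) h2 h1 h3 h4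
    exact (finish' op12 (by norm_num) chk12 sum12 pr7 (by norm_num) e7' hz12 z7p' hell).trans (by decide)
  · exact (no_zr (m' := 12) op13 pr7 (by norm_num) hz13 hz12 z7p' z7ne' (by norm_num) (by decide) (by decide)
      h2 h1 h3).elim
  · exact (no_zr (m' := 12) op14 pr7 (by norm_num) hz14 hz12 z7p' z7ne' (by norm_num) (by decide) (by decide)
      h2 h1 h3).elim
  · have hF : Fact (Nat.Prime 7) := ⟨pr7⟩
    exact ell_seven h2 (orderOf_eq_prime h3 h4)

end Cfsg.Agent.H874.TS
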