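import Cfsg.Agent.H874.TS.Eval
import Cfsg.Agent.H874.TS.Syl

/-!
# `F₄(2)` (helper874, S5745): Levi subgroups, Sylow subgroups for 3, 5, 7, excluded types
-/

set_option autoImplicit false
set_option linter.unusedSectionVars false
set_option maxRecDepth 100000

namespace Cfsg.Agent.H874.TS

open CoxeterSystem Cfsg.Agent.ChevalleyStructure.CoxeterGeom Cfsg.Agent.Tits.Roots Cfsg.Agent.Tits.Core
  Cfsg.Agent.Nodes.Reps Cfsg.Agent.Nodes.BNOf
  Cfsg.Agent.Nodes.StabComb Cfsg.Agent.Nodes.Bruhat Cfsg.Agent.Nodes.LeviDec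
open Cfsg.Lie Cfsg.Agent.ChevalleyStructure Cfsg.Agent.ChevalleyStructure.Elts
  Cfsg.Agent.ChevalleyStructure.RootVec
  Cfsg.Agent.ChevalleyStructure.CoxeterGeomTypes
open Cfsg.Agent.Nodes Cfsg.Agent.Nodes.RGDChev
open Cfsg.Agent.SigZero.FFourTwo (isType inv LC LB LD LE chkLC chkLB chkLD chkLE sumLC sumLB sumLD sumLE)
open Cfsg.Agent.FourTwo.Base Cfsg.Agent.FourTwo.Classes Cfsg.Agent.FourTwo.Par
open Cfsg.Agent.ChevalleyStructure.TwF4.Rel (sp refl)
open Cfsg.Agent.H82.TS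

/-- the Levi subgroup -/
abbrev LM (m : ℕ) : Subgroup LL := LJ c0 h0 T0 X0 (JJ m)

theorem LM_le_PJ (m : ℕ) : LM m ≤ PJ c0 h0 T0 X0 (JJ m) := LJ_le_PJ

theorem mem_LM {m : ℕ} {w : List ℕ} (h : ∀ r ∈ w, r < 48 ∧ rtB m r = true) : wd w ∈ LM m := by
  rw [LM, LJ_eq]
  exact wd_mem_RG h

/-- the order of the Levi subgroup -/
def OddPart (m s : ℕ) : Prop := ∃ a, Nat.card (LM m) ∣ 2 ^ a * s

theorem oddPart_of {m : ℕ} {J : List (Fin 4)} {L : List (List (Fin 4))}
    (hJ : ∀ i : Fin 4, i ∈ J ↔ Nat.testBit m i = true) (hc : Cfsg.Agent.SigZero.FFourTwo.chk J L = true) {s : ℕ}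
    (hs : (L.map fun ω => 2 ^ inv ω).sum = s) : OddPart m s := by
  obtain ⟨a, ha⟩ := Cfsg.Agent.H296.FFourPar.card_PJ_eq (K := ZMod 2) c0 hc
  have hset : ({i | i ∈ J} : Set (Fin 4)) = JJ m := by
    ext i
    exact hJ i
  have hT : Nat.card (T0 : Subgroup LL) = 1 := by rw [T0_eq, Subgroup.card_bot]
  rw [hset] at ha
  refine ⟨a, ?_⟩
  have h1 : Nat.card (PJ c0 h0 T0 X0 (JJ m)) = 2 ^ a * s := by
    rw [← hs]
    refine ha.trans ?_
    rw [Nat.card_zmod]
    show 2 ^ a * Nat.card (T0 : Subgroup LL) * _ = _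
    rw [hT, mul_one]
  rw [← h1]
  exact Subgroup.card_dvd_of_le (LM_le_PJ m)

theorem op0 : OddPart 0 1 := oddPart_of (J := []) (L := [[]]) (by decide) (by decide +kernel) (by decide +kernel)
theorem op1 : OddPart 1 3 := oddPart_of (J := [0]) (L := [[], [0]]) (by decide) (by decide +kernel) (by decide +kernel)
theorem op2 : OddPart 2 3 := oddPart_of (J := [1]) (L := [[], [1]]) (by decide) (by decide +kernel) (by decide +kernel)
theorem op4 : OddPart 4 3 := oddPart_of (J := [2]) (L := [[], [2]]) (by decide) (by decide +kernel) (by decide +kernel)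
theorem op8 : OddPart 8 3 := oddPart_of (J := [3]) (L := [[], [3]]) (by decide) (by decide +kernel) (by decide +kernel)
theorem op5 : OddPart 5 9 := oddPart_of (J := [0, 2]) (L := [[], [0], [2], [0, 2]]) (by decide) (by decide +kernel)
  (by decide +kernel)
theorem op9 : OddPart 9 9 := oddPart_of (J := [0, 3]) (L := [[], [0], [3], [0, 3]]) (by decide) (by decide +kernel)
  (by decide +kernel)
theorem op10 : OddPart 10 9 := oddPart_of (J := [1, 3]) (L := [[], [1], [3], [1, 3]]) (by decide) (by decide +kernel)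
  (by decide +kernel)
theorem op3 : OddPart 3 21 := oddPart_of (J := [0, 1]) (L := [[], [0], [1], [1, 0], [0, 1], [0, 1, 0]]) (by decide)
  (by decide +kernel) (by decide +kernel)
theorem op12 : OddPart 12 21 := oddPart_of (J := [2, 3]) (L := [[], [2], [3], [3, 2], [2, 3], [2, 3, 2]]) (by decide)
  (by decide +kernel) (by decide +kernel)
theorem op6 : OddPart 6 45 := oddPart_of (J := [1, 2])
  (L := [[], [1], [2], [1, 2], [2, 1], [1, 2, 1], [2, 1, 2], [1, 2, 1, 2]]) (by decide) (by decide +kernel)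
  (by decide +kernel)
theorem op7 : OddPart 7 2835 := oddPart_of (by decide) chkLC sumLC
theorem op14 : OddPart 14 2835 := oddPart_of (by decide) chkLB sumLB
theorem op11 : OddPart 11 63 := oddPart_of (by decide) chkLD sumLD
theorem op13 : OddPart 13 63 := oddPart_of (by decide) chkLE sumLE

theorem dvd_of_odd {c a s : ℕ} (h : c ∣ 2 ^ a * s) (h2 : ¬ 2 ∣ c) : c ∣ s := by
  refine Nat.Coprime.dvd_of_dvd_mul_left ?_ h
  exact Nat.Coprime.pow_right _ ((Nat.Prime.coprime_iff_not_dvd Nat.prime_two).2 h2).symm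

/-- conjugacy into a subgroup with the right order -/
theorem conj_in {m s : ℕ} (hop : OddPart m s) {r : ℕ} (hr : r.Prime) (hr2 : r ≠ 2) {Q : Subgroup LL} (hQL : Q ≤ LM m)
    {b : ℕ} (hQ : Nat.card Q = r ^ b) (hs : ¬ r ^ (b + 1) ∣ s) {y : LL} (hy : y ∈ LM m) {k : ℕ} (hyk : y ^ r ^ k = 1) :
    ∃ g ∈ LM m, g * y * g⁻¹ ∈ Q := by
  have hF : Fact r.Prime := ⟨hr⟩
  obtain ⟨a, ha⟩ := hop
  refine exists_conj_in hQL hQ ha (fun h => hs ?_) hy hyk
  refine Nat.Coprime.dvd_of_dvd_mul_left ?_ h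
  exact Nat.Coprime.pow _ _ ((Nat.coprime_primes hr Nat.prime_two).2 hr2)

/-- the order of the part of the centralizer in the Levi subgroup -/
theorem cent_dvd {m s : ℕ} (hop : OddPart m s) {y : LL} (hell : Ell c0 h0 T0 X0 (JJ m) y) (hy : y ∈ LM m) :
    Nat.card (Cx y ⊓ LM m : Subgroup LL) ∣ s := by
  obtain ⟨a, ha⟩ := hop
  exact dvd_of_odd ((Subgroup.card_dvd_of_le inf_le_right).trans ha) (not_dvd rg bt GG_top hell hy)

/-- not elliptic, if in a smaller Levi subgroup -/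
theorem not_ell {m m' : ℕ} (hsub : ∀ i : Fin 4, Nat.testBit m' i = true → Nat.testBit m i = true)
    (hne : ∃ i : Fin 4, Nat.testBit m i = true ∧ Nat.testBit m' i ≠ true) {y : LL}
    (hell : Ell c0 h0 T0 X0 (JJ m) y) {g : LL} (hg : g * y * g⁻¹ ∈ LM m') : False := by
  have h1 := hell (JJ m') (fun i hi => hsub i hi) g⁻¹ (by
    rw [mem_cj]
    have : g⁻¹⁻¹ * y * g⁻¹ = g * y * g⁻¹ := by rw [inv_inv]
    rw [this]
    exact LM_le_PJ m' hg)
  obtain ⟨i, hi, hi'⟩ := hne
  have h2 : i ∈ JJ m' := by rw [h1]; exact hi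
  exact hi' h2

theorem comm_false {m : ℕ} {y : LL} (hell : Ell c0 h0 T0 X0 (JJ m) y) (hy : y ∈ LM m) {u : LL} (hu : u ∈ LM m)
    (hu2 : u ^ 2 = 1) (hu1 : u ≠ 1) (hyu : y * u = u * y) : False :=
  hu1 (eq_one_of_comm rg bt GG_top hell hy hu hu2 hyu)

/-! ### Words -/

theorem wmul {a b c d : List ℕ} (h : chk (a ++ b) (c ++ d) = true) : wd a * wd b = wd c * wd d := by
  rw [← wd_append, ← wd_append]; exact wd_eq _ _ h

theorem wcomm {a b : List ℕ} (h : chk (a ++ b) (b ++ a) = true) : wd a * wd b = wd b * wd a := wmul h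

theorem wpow2 {a : List ℕ} (h : chk (a ++ a) [] = true) : wd a ^ 2 = 1 := by
  rw [pow_two, ← wd_append]; exact wd_eq _ _ h

theorem wpow3 {a : List ℕ} (h : chk (a ++ (a ++ a)) [] = true) : wd a ^ 3 = 1 := by
  rw [pow_succ', pow_two, ← wd_append, ← wd_append]; exact wd_eq _ _ h

/-- the element of order three of the root `r` -/
abbrev sg (r : ℕ) : LL := wd [47 - r, r]

theorem sg_eq (r : ℕ) : sg r = x (47 - r) * x r := by simp [wd]

theorem xs_ne {r : ℕ} (hr : r < 48) (h3 : sg r ^ 3 = 1) : wd [r] * sg r ≠ sg r * wd [r] := by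
  intro h
  rw [wd_one, sg_eq, mul_assoc (x (47 - r)), x_mul_self, mul_one] at h
  -- `x * (x' * x) = x'`
  have h1 : x r * x (47 - r) = x (47 - r) * x r := by
    have := congrArg (· * x r) h
    simpa only [mul_assoc, x_mul_self, mul_one] using this
  have h2 : sg r ^ 2 = 1 := by
    rw [sg_eq, pow_two]
    calc x (47 - r) * x r * (x (47 - r) * x r) = x (47 - r) * (x r * x (47 - r)) * x r := by group
      _ = x (47 - r) * (x (47 - r) * x r) * x r := by rw [h1]
      _ = (x (47 - r) * x (47 - r)) * (x r * x r) := by group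
      _ = 1 := by rw [x_mul_self, x_mul_self, mul_one]
  have h4 : sg r = 1 := by
    have : sg r ^ 3 = sg r ^ 2 * sg r := pow_succ _ _
    rw [h3, h2, one_mul] at this
    exact this.symm
  rw [sg_eq] at h4
  have h5 : x (47 - r) = x r := by
    rw [mul_eq_one_iff_eq_inv, x_inv] at h4; exact h4
  have h6 := Cfsg.Agent.FourTwo.BN.x_inj (by omega) hr h5
  omega

/-- the nodes -/
theorem sg_ne_one {r : ℕ} (hr : r < 48) (h3 : sg r ^ 3 = 1) : sg r ≠ 1 := by
  intro h
  exact xs_ne hr h3 (by rw [h, mul_one, one_mul])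

end Cfsg.Agent.H874.TS
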