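import Cfsg.Agent.H874.TS.Lev

/-!
# `F₄(2)` (helper874, S5745): the types of the elliptic elements of order three
-/

set_option autoImplicit false
set_option linter.unusedSectionVars false
set_option maxRecDepth 100000

namespace Cfsg.Agent.H874.TS

open CoxeterSystem Cfsg.Agent.ChevalleyStructure.CoxeterGeom Cfsg.Agent.Tits.Roots Cfsg.Agent.Tits.Core
  Cfsg.Agent.Nodes.Reps Cfsg.Agent.Nodes.BNOf
  Cfsg.Agent.Nodes.StabComb Cfsg.Agent.Nodes.Bruhat Cfsg.Agent.Nodes.LeviDec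
open Cfsg.Lie
open Cfsg.Agent.FourTwo.Base
open Cfsg.Agent.H82.TS

attribute [local irreducible] wd

/-- the memberships of `x_{±a}` -/
def inB (m a : ℕ) : Bool := Nat.ble a 47 && rtB m a && rtB m (47 - a)

theorem inB_lt {m a : ℕ} (h : inB m a = true) : a < 48 := by
  simp only [inB, Bool.and_eq_true, Nat.ble_eq] at h
  omega

theorem wd_mem_of {m : ℕ} {w : List ℕ} (h : (w.all fun r => Nat.ble r 47 && rtB m r) = true) : wd w ∈ LM m := by
  refine mem_LM fun r hr => ?_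
  rw [List.all_eq_true] at h
  have := h r hr
  rw [Bool.and_eq_true, Nat.ble_eq] at this
  exact ⟨by omega, this.2⟩

theorem sg_mem {m a : ℕ} (h : inB m a = true) : sg a ∈ LM m := by
  refine wd_mem_of ?_
  simp only [inB, Bool.and_eq_true, Nat.ble_eq] at h
  simp only [List.all_cons, List.all_nil, Bool.and_true, Bool.and_eq_true, Nat.ble_eq]
  exact ⟨⟨by omega, h.2⟩, h.1.1, h.1.2⟩

theorem x_mem {m a : ℕ} (h : inB m a = true) : wd [a] ∈ LM m := by
  refine wd_mem_of ?_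
  simp only [inB, Bool.and_eq_true, Nat.ble_eq] at h
  simp only [List.all_cons, List.all_nil, Bool.and_true, Bool.and_eq_true, Nat.ble_eq]
  exact ⟨h.1.1, h.1.2⟩

/-- the word of `sg a` -/
def W (a : ℕ) : List ℕ := [47 - a, a]

theorem sgW (a : ℕ) : sg a = wd (W a) := rfl

/-- the relations of two orthogonal roots -/
def chk2 (a b : ℕ) : Bool :=
  chk (W a ++ W b) (W b ++ W a) && chk (W a ++ (W a ++ W a)) [] && chk (W b ++ (W b ++ W b)) [] &&
    chk ([a] ++ W b) (W b ++ [a]) && chk ([b] ++ W a) (W a ++ [b])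

theorem two_of {m a b : ℕ} (ha : inB m a = true) (hb : inB m b = true) (h : chk2 a b = true) :
    Two (LM m) (sg a) (sg b) (wd [a]) (wd [b]) := by
  simp only [chk2, Bool.and_eq_true] at h
  obtain ⟨⟨⟨⟨h1, h2⟩, h3⟩, h4⟩, h5⟩ := h
  have e2 : sg a ^ 3 = 1 := wpow3 h2
  have e3 : sg b ^ 3 = 1 := wpow3 h3
  exact { s1L := sg_mem ha, s2L := sg_mem hb, x1L := x_mem ha, x2L := x_mem hb, ss := wcomm h1, s1p := e2, s2p := e3
          x1p := by rw [wd_one, pow_two, x_mul_self], x2p := by rw [wd_one, pow_two, x_mul_self]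
          x12 := wcomm h4, x21 := wcomm h5, x11 := xs_ne (inB_lt ha) e2, x22 := xs_ne (inB_lt hb) e3 }

theorem dvd_test {r b s : ℕ} (h : Nat.beq (s % r ^ (b + 1)) 0 = false) : ¬ r ^ (b + 1) ∣ s := by
  intro h1
  rw [Nat.mod_eq_zero_of_dvd h1] at h
  exact Bool.noConfusion h

theorem three_pow : (3 : ℕ) ^ 1 = 3 := by norm_num

/-- conjugacy into `⟨sg a⟩` -/
theorem conj_zp {m s a : ℕ} (hop : OddPart m s) (ha : inB m a = true) (h3 : chk (W a ++ (W a ++ W a)) [] = true)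
    (hs : ¬ 3 ^ 2 ∣ s) {y : LL} (hy : y ∈ LM m) (hy3 : y ^ 3 = 1) : ∃ g ∈ LM m, ∃ k < 3, g * y * g⁻¹ = sg a ^ k := by
  have e : sg a ^ 3 = 1 := wpow3 h3
  have hne : sg a ≠ 1 := sg_ne_one (inB_lt ha) e
  have ho : orderOf (sg a) = 3 := orderOf_eq_prime e hne
  obtain ⟨g, hg, h1⟩ := conj_in hop Nat.prime_three (by norm_num) (Q := Subgroup.zpowers (sg a))
    (by rw [Subgroup.zpowers_le]; exact sg_mem ha) (b := 1) (by rw [Nat.card_zpowers, ho, pow_one]) hs hy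
    (k := 1) (by rw [three_pow]; exact hy3)
  refine ⟨g, hg, ?_⟩
  rw [← mem_powers_iff_mem_zpowers] at h1
  obtain ⟨k, hk⟩ := h1
  refine ⟨k % 3, Nat.mod_lt _ (by norm_num), ?_⟩
  rw [← hk, ← pow_eq_pow_mod k e]

theorem conj_ne {y g : LL} (hy : y ≠ 1) : g * y * g⁻¹ ≠ 1 := fun h => hy (conj_eq_one_iff.1 h)

/-- one node -/
theorem one_node {m a : ℕ} (hop : OddPart m 3) (ha : inB m a = true) (h3 : chk (W a ++ (W a ++ W a)) [] = true)
    (hn : chk ([a, 47 - a, a] ++ (W a ++ W a)) (W a ++ [a, 47 - a, a]) = true)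
    {y : LL} (hy : y ∈ LM m) (hy3 : y ^ 3 = 1) (hy1 : y ≠ 1) : ∃ g, g * y * g⁻¹ = sg a := by
  obtain ⟨g, -, k, hk, h1⟩ := conj_zp hop ha h3 (by norm_num) hy hy3
  have hne := conj_ne (g := g) hy1
  have hk1 : k = 1 ∨ k = 2 := by
    rcases Nat.eq_zero_or_pos k with h | h
    · rw [h, pow_zero] at h1; exact absurd h1 hne
    · omega
  rcases hk1 with rfl | rfl
  · exact ⟨g, by rw [h1, pow_one]⟩
  · refine ⟨wd [a, 47 - a, a] * g, ?_⟩
    have e1 : wd [a, 47 - a, a] * (sg a * sg a) = sg a * wd [a, 47 - a, a] := by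
      have := wd_eq _ _ hn
      rw [wd_append, wd_append, wd_append] at this
      exact this
    calc wd [a, 47 - a, a] * g * y * (wd [a, 47 - a, a] * g)⁻¹ =
        wd [a, 47 - a, a] * (g * y * g⁻¹) * (wd [a, 47 - a, a])⁻¹ := by group
      _ = wd [a, 47 - a, a] * (sg a * sg a) * (wd [a, 47 - a, a])⁻¹ := by rw [h1, pow_two]
      _ = _ := by rw [e1, mul_inv_cancel_right]

/-- conjugacy into `⟨sg a, sg b⟩` -/
theorem conj_two {m s a b : ℕ} (hop : OddPart m s) (ha : inB m a = true) (hb : inB m b = true) (h : chk2 a b = true)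
    (hs : ¬ 3 ^ 3 ∣ s) {y : LL} (hy : y ∈ LM m) (hy3 : y ^ 3 = 1) :
    ∃ g ∈ LM m, ∃ i < 3, ∃ j < 3, g * y * g⁻¹ = sg a ^ i * sg b ^ j := by
  obtain ⟨B, hB, hBL, hB'⟩ := (two_of ha hb h).sub
  obtain ⟨g, hg, h1⟩ := conj_in hop Nat.prime_three (by norm_num) (Q := B) hBL (b := 2) (by rw [hB]; norm_num) hs hy
    (k := 1) (by rw [three_pow]; exact hy3)
  obtain ⟨i, hi, j, hj, h2⟩ := (hB' _).1 h1
  exact ⟨g, hg, i, hi, j, hj, h2⟩

/-- the word of `n_a` -/
def N (a : ℕ) : List ℕ := [a, 47 - a, a]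

/-- the conjugacy of the products -/
def chkP (a b : ℕ) : Bool :=
  chk (N a ++ (W a ++ W a ++ W b)) (W a ++ W b ++ N a) && chk (N b ++ (W a ++ (W b ++ W b))) (W a ++ W b ++ N b) &&
    chk (N a ++ N b ++ (W a ++ W a ++ (W b ++ W b))) (W a ++ W b ++ (N a ++ N b))

theorem conj_word {g y : LL} {w u t : List ℕ} (h1 : g * y * g⁻¹ = wd u) (h : chk (w ++ u) (t ++ w) = true) :
    ∃ g', g' * y * g'⁻¹ = wd t := by
  refine ⟨wd w * g, ?_⟩
  have e1 : wd w * wd u = wd t * wd w := wmul h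
  calc wd w * g * y * (wd w * g)⁻¹ = wd w * (g * y * g⁻¹) * (wd w)⁻¹ := by group
    _ = _ := by rw [h1, e1, mul_inv_cancel_right]

/-- two orthogonal nodes -/
theorem two_nodes {m ma mb a b : ℕ} (hop : OddPart m 9) (ha : inB m a = true) (hb : inB m b = true)
    (h : chk2 a b = true) (hP : chkP a b = true) (ha' : inB ma a = true) (hb' : inB mb b = true)
    (hsa : ∀ i : Fin 4, Nat.testBit ma i = true → Nat.testBit m i = true)
    (hsa' : ∃ i : Fin 4, Nat.testBit m i = true ∧ Nat.testBit ma i ≠ true)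
    (hsb : ∀ i : Fin 4, Nat.testBit mb i = true → Nat.testBit m i = true)
    (hsb' : ∃ i : Fin 4, Nat.testBit m i = true ∧ Nat.testBit mb i ≠ true)
    {y : LL} (hell : Ell c0 h0 T0 X0 (JJ m) y) (hy : y ∈ LM m) (hy3 : y ^ 3 = 1) :
    ∃ g, g * y * g⁻¹ = sg a * sg b := by
  obtain ⟨g, -, i, hi, j, hj, h1⟩ := conj_two hop ha hb h (by norm_num) hy hy3
  rcases Nat.eq_zero_or_pos i with rfl | hi0
  · exact (not_ell hsb hsb' hell (g := g) (by
      rw [h1, pow_zero, one_mul]; exact Subgroup.pow_mem _ (sg_mem hb') _)).elim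
  rcases Nat.eq_zero_or_pos j with rfl | hj0
  · exact (not_ell hsa hsa' hell (g := g) (by
      rw [h1, pow_zero, mul_one]; exact Subgroup.pow_mem _ (sg_mem ha') _)).elim
  have e : sg a * sg b = wd (W a ++ W b) := (wd_append _ _).symm
  have e2 : ∀ c : ℕ, sg c ^ 2 = wd (W c ++ W c) := fun c => by rw [pow_two, sgW, wd_append]
  simp only [chkP, Bool.and_eq_true] at hP
  obtain ⟨⟨p1, p2⟩, p3⟩ := hP
  rw [e]
  have hi2 : i = 1 ∨ i = 2 := by omega
  have hj2 : j = 1 ∨ j = 2 := by omega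
  rcases hi2 with rfl | rfl <;> rcases hj2 with rfl | rfl
  · exact ⟨g, by rw [h1, pow_one, pow_one]; exact e⟩
  · refine conj_word (g := g) (u := W a ++ (W b ++ W b)) ?_ p2
    rw [h1, pow_one, e2, wd_append (W a) (W b ++ W b), sgW a]
  · refine conj_word (g := g) (u := W a ++ W a ++ W b) ?_ p1
    rw [h1, pow_one, e2, wd_append (W a ++ W a) (W b), sgW b]
  · refine conj_word (g := g) (u := W a ++ W a ++ (W b ++ W b)) ?_ p3
    rw [h1, e2, e2, wd_append (W a ++ W a) (W b ++ W b)]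

theorem inv_of_zp {m m' s a : ℕ} (hop : OddPart m s) (ha : inB m a = true) (ha' : inB m' a = true)
    (h3 : chk (W a ++ (W a ++ W a)) [] = true) (hs : ¬ 3 ^ 2 ∣ s)
    (hsub : ∀ i : Fin 4, Nat.testBit m' i = true → Nat.testBit m i = true)
    (hne : ∃ i : Fin 4, Nat.testBit m i = true ∧ Nat.testBit m' i ≠ true)
    {y : LL} (hell : Ell c0 h0 T0 X0 (JJ m) y) (hy : y ∈ LM m) (hy3 : y ^ 3 = 1) : False := by
  obtain ⟨g, -, k, -, h1⟩ := conj_zp hop ha h3 hs hy hy3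
  exact not_ell hsub hne hell (g := g) (by rw [h1]; exact Subgroup.pow_mem _ (sg_mem ha') _)

theorem inv_of_two {m m' s a b : ℕ} (hop : OddPart m s) (ha : inB m a = true) (hb : inB m b = true)
    (ha' : inB m' a = true) (hb' : inB m' b = true) (h : chk2 a b = true) (hs : ¬ 3 ^ 3 ∣ s)
    (hsub : ∀ i : Fin 4, Nat.testBit m' i = true → Nat.testBit m i = true)
    (hne : ∃ i : Fin 4, Nat.testBit m i = true ∧ Nat.testBit m' i ≠ true)
    {y : LL} (hell : Ell c0 h0 T0 X0 (JJ m) y) (hy : y ∈ LM m) (hy3 : y ^ 3 = 1) : False := by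
  obtain ⟨g, -, i, -, j, -, h1⟩ := conj_two hop ha hb h hs hy hy3
  exact not_ell hsub hne hell (g := g) (by
    rw [h1]; exact Subgroup.mul_mem _ (Subgroup.pow_mem _ (sg_mem ha') _) (Subgroup.pow_mem _ (sg_mem hb') _))

/-! ### `B₂` -/

theorem no_six {y : LL} (hell : Ell c0 h0 T0 X0 (JJ 6) y) (hy : y ∈ LM 6) (hy3 : y ^ 3 = 1) : False := by
  obtain ⟨g, hg, i, hi, j, hj, h1⟩ := conj_two (a := 25) (b := 30) op6 (by decide +kernel) (by decide +kernel)
    (by decide +kernel) (by norm_num) hy hy3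
  have hT := two_of (m := 6) (a := 25) (b := 30) (by decide +kernel) (by decide +kernel) (by decide +kernel)
  have hcL : wd [27, 20, 27] ∈ LM 6 := wd_mem_of (by decide +kernel)
  have hdL : wd [28, 19, 28] ∈ LM 6 := wd_mem_of (by decide +kernel)
  have hd1 : wd [28, 19, 28] * sg 25 = (sg 30)⁻¹ * wd [28, 19, 28] := by
    rw [eq_inv_mul_iff_mul_eq]
    show wd (W 30) * (wd [28, 19, 28] * wd (W 25)) = _
    rw [← wd_append, ← wd_append]
    exact wd_eq _ _ (by decide +kernel)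
  have hd3 : wd [28, 19, 28] * sg 30 = (sg 25)⁻¹ * wd [28, 19, 28] := by
    rw [eq_inv_mul_iff_mul_eq]
    show wd (W 25) * (wd [28, 19, 28] * wd (W 30)) = _
    rw [← wd_append, ← wd_append]
    exact wd_eq _ _ (by decide +kernel)
  obtain ⟨u, huL, hu2, hu1, hu⟩ := hT.exists_inv (c := wd [27, 20, 27]) (d := wd [28, 19, 28]) hcL hdL
    (wpow2 (by decide +kernel)) (wpow2 (by decide +kernel)) (wmul (a := [27, 20, 27]) (b := W 25) (c := W 30)
      (d := [27, 20, 27]) (by decide +kernel)) (wmul (a := [27, 20, 27]) (b := W 30) (c := W 25)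
      (d := [27, 20, 27]) (by decide +kernel)) hd1 hd3 hi hj
  have hell' := hell.conj' g
  have hy' : g * y * g⁻¹ ∈ LM 6 := Subgroup.mul_mem _ (Subgroup.mul_mem _ hg hy) (Subgroup.inv_mem _ hg)
  rw [h1] at hell' hy'
  exact comm_false hell' hy' huL hu2 hu1 hu

/-! ### `C₃`, `B₃` -/

/-- the relations of `3 ≀ 3`; roots `a`, `b`, `c`, words `p`, `q0`, `q1`, `q2` -/
def chkC (m a b c : ℕ) (p q0 q1 q2 : List ℕ) : Bool :=
  inB m a && inB m b && inB m c && chk2 a b && chk2 a c && chk2 b c &&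
  ((p ++ q0 ++ q1 ++ q2).all fun r => Nat.ble r 47 && rtB m r) &&
  chk (([a, b, c] : List ℕ) ++ [a, b, c]) [] && chk (q0 ++ q0) [] && chk (q1 ++ q1) [] && chk (q2 ++ q2) [] &&
  chk (p ++ (p ++ p)) [] &&
  chk (p ++ W a) (W b ++ p) && chk (p ++ W b) (W c ++ p) && chk (p ++ W c) (W a ++ p) && chk (p ++ [a, b, c]) ([a, b, c] ++ p) &&
  chk (q0 ++ W a) (W a ++ q0) && chk (q0 ++ W b) (W c ++ q0) && chk (q0 ++ W c) (W b ++ q0) &&
  chk (q1 ++ W a) (W c ++ q1) && chk (q1 ++ W b) (W b ++ q1) && chk (q1 ++ W c) (W a ++ q1) &&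
  chk (q2 ++ W a) (W b ++ q2) && chk (q2 ++ W b) (W a ++ q2) && chk (q2 ++ W c) (W c ++ q2)

theorem cyc_of {m a b c : ℕ} {p q0 q1 q2 : List ℕ} (h : chkC m a b c p q0 q1 q2 = true) :
    Cyc (LM m) (sg a) (sg b) (sg c) (wd [a]) (wd [b]) (wd [c]) (wd p) (wd [a, b, c]) (wd q0) (wd q1) (wd q2) := by
  simp only [chkC, Bool.and_eq_true] at h
  obtain ⟨⟨⟨⟨⟨⟨⟨⟨⟨⟨⟨⟨⟨⟨⟨⟨⟨⟨⟨⟨⟨⟨⟨⟨ha, hb⟩, hc⟩, hab⟩, hac⟩, hbc⟩, hall⟩, ht⟩, hq0⟩, hq1⟩, hq2⟩, hp3⟩, p0⟩, p1⟩, p2⟩, pt⟩, c00⟩,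
    c01⟩, c02⟩, c10⟩, c11⟩, c12⟩, c20⟩, c21⟩, c22⟩ := h
  have Tab := two_of ha hb hab
  have Tac := two_of ha hc hac
  have Tbc := two_of hb hc hbc
  have hall' : ∀ r ∈ p ++ q0 ++ q1 ++ q2, r < 48 ∧ rtB m r = true := by
    rw [List.all_eq_true] at hall
    intro r hr
    have := hall r hr
    rw [Bool.and_eq_true, Nat.ble_eq] at this
    exact ⟨by omega, this.2⟩
  have mem : ∀ w : List ℕ, (∀ r ∈ w, r ∈ p ++ q0 ++ q1 ++ q2) → wd w ∈ LM m := fun w hw =>
    mem_LM fun r hr => hall' r (hw r hr)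
  have htm : wd [a, b, c] ∈ LM m := by
    have e : wd [a, b, c] = wd [a] * wd [b] * wd [c] := by rw [← wd_append, ← wd_append]; rfl
    rw [e]
    exact Subgroup.mul_mem _ (Subgroup.mul_mem _ (x_mem ha) (x_mem hb)) (x_mem hc)
  exact
    { s0L := Tab.s1L, s1L := Tab.s2L, s2L := Tac.s2L, x0L := Tab.x1L, x1L := Tab.x2L, x2L := Tac.x2L
      pL := mem p fun r hr => by simp [hr]
      tL := htm
      c0L := mem q0 fun r hr => by simp [hr]
      c1L := mem q1 fun r hr => by simp [hr]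
      c2L := mem q2 fun r hr => by simp [hr]
      s01 := Tab.ss, s02 := Tac.ss, s12 := Tbc.ss, s0p := Tab.s1p, s1p := Tab.s2p, s2p := Tac.s2p
      x0p := Tab.x1p, x1p := Tab.x2p, x2p := Tac.x2p
      tp := wpow2 ht, c0p := wpow2 hq0, c1p := wpow2 hq1, c2p := wpow2 hq2, pp := wpow3 hp3
      x01 := Tab.x12, x02 := Tac.x12, x10 := Tab.x21, x12 := Tbc.x12, x20 := Tac.x21, x21 := Tbc.x21
      x00 := Tab.x11, x11 := Tab.x22, x22 := Tac.x22
      p0 := wmul p0, p1 := wmul p1, p2 := wmul p2, pt := wmul pt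
      t1 := fun h1 => by
        have e : wd [a, b, c] = wd [a] * (wd [b] * wd [c]) := by rw [← wd_append, ← wd_append]; rfl
        rw [e] at h1
        have e2 : wd [a] = (wd [b] * wd [c])⁻¹ := eq_inv_of_mul_eq_one_left h1
        refine Tab.x11 ?_
        rw [e2]
        exact (((show Commute (wd [b]) (sg a) from Tab.x21).mul_left
          (show Commute (wd [c]) (sg a) from Tac.x21)).inv_left).eq
      c00 := wmul c00, c01 := wmul c01, c02 := wmul c02, c10 := wmul c10, c11 := wmul c11, c12 := wmul c12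
      c20 := wmul c20, c21 := wmul c21, c22 := wmul c22 }

theorem no_cyc {m s a b c : ℕ} {p q0 q1 q2 : List ℕ} (h : chkC m a b c p q0 q1 q2 = true) (hop : OddPart m s)
    (hs : ¬ 3 ^ 5 ∣ s) {y : LL} (hell : Ell c0 h0 T0 X0 (JJ m) y) (hy : y ∈ LM m) (hy3 : y ^ 3 = 1) : False := by
  have hC := cyc_of h
  obtain ⟨B, hB, hBL, hB'⟩ := hC.sub
  obtain ⟨g, hg, h1⟩ := conj_in hop Nat.prime_three (by norm_num) (Q := B) hBL (b := 4) (by rw [hB]; norm_num) hs hy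
    (k := 1) (by rw [three_pow]; exact hy3)
  obtain ⟨i, hi, j, hj, k, hk, l, hl, h2⟩ := hB' _ h1
  have h3 : (g * y * g⁻¹) ^ 3 = 1 := by rw [conj_pow, hy3, mul_one, mul_inv_cancel]
  rw [h2] at h3
  obtain ⟨u, huL, hu2, hu1, hu⟩ := hC.exists_inv hi hj hk hl h3
  have hell' := hell.conj' g
  have hy' : g * y * g⁻¹ ∈ LM m := Subgroup.mul_mem _ (Subgroup.mul_mem _ hg hy) (Subgroup.inv_mem _ hg)
  rw [h2] at hell' hy'
  exact comm_false hell' hy' huL hu2 hu1 hu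

theorem chkC7 : chkC 7 25 41 30 [33, 14, 33, 27, 20, 27] [33, 14, 33] [27, 20, 27] [34, 13, 34] = true := by
  decide +kernel

theorem chkC14 : chkC 14 27 28 29 [25, 22, 25, 24, 23, 24] [24, 23, 24] [26, 21, 26] [25, 22, 25] = true := by
  decide +kernel

end Cfsg.Agent.H874.TS
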