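import Cfsg.Agent.H874.TS.Base

/-!
# `F₄(2)` : evaluation of T* (helper874, S5745), the elements of `W` stabilising `J`
-/

set_option autoImplicit false
set_option linter.unusedSectionVars false
set_option maxRecDepth 100000

namespace Cfsg.Agent.H874.TS

open CoxeterSystem Cfsg.Agent.ChevalleyStructure.CoxeterGeom Cfsg.Agent.Tits.Roots Cfsg.Agent.Tits.Core
  Cfsg.Agent.Nodes.Reps Cfsg.Agent.Nodes.BNOf
  Cfsg.Agent.Nodes.StabComb Cfsg.Agent.Nodes.Bruhat Cfsg.Agent.Nodes.LeviDec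
open Cfsg.Lie Cfsg.Agent.ChevalleyStructure Cfsg.Agent.ChevalleyStructure.Elts
  Cfsg.Agent.ChevalleyStructure.RootVec
  Cfsg.Agent.ChevalleyStructure.CoxeterGeomTypes
open Cfsg.Agent.Nodes Cfsg.Agent.Nodes.RGDChev
open Cfsg.Agent.SigZero.FFourTwo (isType)
open Cfsg.Agent.FourTwo.Base Cfsg.Agent.FourTwo.Classes Cfsg.Agent.FourTwo.Par
open Cfsg.Agent.FourTwo.UCode (reflU conjU mulU invU el_mod)
open Cfsg.Agent.ChevalleyStructure.TwF4.Rel (sp refl)
open Cfsg.Agent.ChevalleyStructure.F4TwU (posList mem_posList)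
open Cfsg.Agent.H82.TS

/-! ### Tables -/

/-- the coefficients of the positive roots, three bits each -/
def RT : ℕ := 151792888451889274503715207562125876022649549817029850533312116702644211513969778885120

/-- the codes of the roots -/
def cds0 : List ℕ := [
  149, 152, 157, 169, 181, 186, 189, 188, 200, 205, 208, 217, 220, 225, 237, 219, 224, 227, 236, 239, 244, 248, 251, 253,
  3, 5, 8, 12, 17, 20, 29, 32, 37, 19, 31, 36, 39, 48, 51, 56, 68, 67, 70, 75, 87, 99, 104, 107]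

/-- the set of the codes -/
def MK : ℕ := 18574311351605408540218629318074086439470892773773480136547182123325209579816

/-- the index of the positive root of `± r` -/
def ix (r : ℕ) : ℕ := cond (Nat.ble 24 r) (r - 24) (23 - r)

/-- the absolute value of the coefficient -/
def vN (r k : ℕ) : ℕ := Nat.land (Nat.shiftRight RT (12 * ix r + 3 * k)) 7

theorem vec_tab : ∀ r : Fin 48, ∀ k : Fin 4, vec chevF4 4 r k = (if r.1 < 24 then -1 else 1) * (vN r k : ℤ) := by
  decide +kernel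

theorem vec_pos {r : ℕ} (hr : r < 48) (h : 24 ≤ r) (k : Fin 4) : vec chevF4 4 r k = vN r k := by
  rw [vec_tab ⟨r, hr⟩ k, if_neg (show ¬ r < 24 by omega), one_mul]

theorem vec_zero {r : ℕ} (hr : r < 48) (k : Fin 4) : vec chevF4 4 r k = 0 ↔ vN r k = 0 := by
  rw [vec_tab ⟨r, hr⟩ k]
  split_ifs <;> simp

/-- the separating functional -/
def num (v : Fin 4 → ℤ) : ℤ := 19 * v 0 + 12 * v 1 + 5 * v 2 + 3 * v 3

/-- the code -/
def cd (v : Fin 4 → ℤ) : ℕ := (num v % 256).toNat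

theorem cd_eq (v : Fin 4 → ℤ) : (cd v : ℤ) = num v % 256 := Int.toNat_of_nonneg (Int.emod_nonneg _ (by norm_num))

theorem cd_tab : ∀ r : Fin 48, cd (vec chevF4 4 r) = cds0.getD r 0 := by decide +kernel

theorem cds0_nodup : cds0.Nodup := by decide +kernel

/-- membership of a code -/
def isR (z : ℕ) : Bool := Nat.testBit MK z

theorem isR_tab : ∀ r : Fin 48, isR (cds0.getD r 0) = true := by decide +kernel

theorem isR_cd {v : Fin 4 → ℤ} (hv : IsRoot c0 h0 v) : isR (cd v) = true := by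
  obtain ⟨r, hr, rfl⟩ := isRoot_iff'.1 hv
  rw [cd_tab ⟨r, hr⟩]
  exact isR_tab ⟨r, hr⟩

theorem mem_cds0 {v : Fin 4 → ℤ} (hv : IsRoot c0 h0 v) : cd v ∈ cds0 := by
  obtain ⟨r, hr, rfl⟩ := isRoot_iff'.1 hv
  rw [cd_tab ⟨r, hr⟩, List.getD_eq_getElem _ _ (by show r < cds0.length; exact hr)]
  exact List.getElem_mem _

theorem cd_inj {v v' : Fin 4 → ℤ} (hv : IsRoot c0 h0 v) (hv' : IsRoot c0 h0 v') (h : cd v = cd v') : v = v' := by
  obtain ⟨r, hr, rfl⟩ := isRoot_iff'.1 hv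
  obtain ⟨s, hs, rfl⟩ := isRoot_iff'.1 hv'
  rw [cd_tab ⟨r, hr⟩, cd_tab ⟨s, hs⟩, List.getD_eq_getElem _ _ (by show r < cds0.length; exact hr),
    List.getD_eq_getElem _ _ (by show s < cds0.length; exact hs)] at h
  have h1 : r = s := (List.Nodup.getElem_inj_iff cds0_nodup).1 h
  rw [h1]

theorem vec_inj {r s : ℕ} (hr : r < 48) (hs : s < 48) (h : vec chevF4 4 r = vec chevF4 4 s) : r = s := by
  have h1 : cd (vec chevF4 4 r) = cd (vec chevF4 4 s) := by rw [h]
  rw [cd_tab ⟨r, hr⟩, cd_tab ⟨s, hs⟩, List.getD_eq_getElem _ _ (by show r < cds0.length; exact hr),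
    List.getD_eq_getElem _ _ (by show s < cds0.length; exact hs)] at h1
  exact (List.Nodup.getElem_inj_iff cds0_nodup).1 h1

theorem cd_neg_tab : ∀ r : Fin 48, (¬ ∀ k, 0 ≤ vec chevF4 4 r k) → 128 ≤ cd (vec chevF4 4 r) := by
  decide +kernel

theorem cd_neg {v : Fin 4 → ℤ} (hv : IsRoot c0 h0 v) (h : ¬ 0 ≤ v) : 128 ≤ cd v := by
  obtain ⟨r, hr, rfl⟩ := isRoot_iff'.1 hv
  exact cd_neg_tab ⟨r, hr⟩ h

/-- the code of the image of the positive root `r` -/
def lin (r t0 t1 t2 t3 : ℕ) : ℕ := Nat.land (vN r 0 * t0 + vN r 1 * t1 + vN r 2 * t2 + vN r 3 * t3) 255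

theorem land_255 (n : ℕ) : Nat.land n 255 = n % 256 := Nat.and_two_pow_sub_one_eq_mod n 8

/-- the tuple of `w` -/
noncomputable def tup (w : CoxeterMatrix.F₄.Group) : ℕ × ℕ × ℕ × ℕ :=
  (cd (rep c0 h0 w (sr 0)), cd (rep c0 h0 w (sr 1)), cd (rep c0 h0 w (sr 2)), cd (rep c0 h0 w (sr 3)))

theorem num_add (v v' : Fin 4 → ℤ) : num (v + v') = num v + num v' := by
  simp only [num, Pi.add_apply]; ring

theorem num_smul (c : ℤ) (v : Fin 4 → ℤ) : num (c • v) = c * num v := by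
  simp only [num, Pi.smul_apply, smul_eq_mul]; ring

theorem eq_sum (v : Fin 4 → ℤ) : v = v 0 • sr 0 + v 1 • sr 1 + v 2 • sr 2 + v 3 • sr 3 := by
  funext k
  fin_cases k <;> simp [sr]

theorem isRoot_vec' {r : ℕ} (hr : r < 48) : IsRoot c0 h0 (vec chevF4 4 r) := isRoot_iff'.2 ⟨r, hr, rfl⟩

theorem cd_rep (w : CoxeterMatrix.F₄.Group) {r : ℕ} (hr : r < 48) (h24 : 24 ≤ r) :
    cd (rep c0 h0 w (vec chevF4 4 r)) = lin r (tup w).1 (tup w).2.1 (tup w).2.2.1 (tup w).2.2.2 := by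
  have h1 : num (rep c0 h0 w (vec chevF4 4 r)) = vN r 0 * num (rep c0 h0 w (sr 0)) +
      vN r 1 * num (rep c0 h0 w (sr 1)) + vN r 2 * num (rep c0 h0 w (sr 2)) + vN r 3 * num (rep c0 h0 w (sr 3)) := by
    conv_lhs => rw [eq_sum (vec chevF4 4 r)]
    rw [map_add, map_add, map_add, map_smul, map_smul, map_smul, map_smul, num_add, num_add, num_add, num_smul,
      num_smul, num_smul, num_smul, vec_pos hr h24, vec_pos hr h24, vec_pos hr h24, vec_pos hr h24]
    rfl
  have h2 : (cd (rep c0 h0 w (vec chevF4 4 r)) : ℤ) =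
      (lin r (tup w).1 (tup w).2.1 (tup w).2.2.1 (tup w).2.2.2 : ℕ) := by
    rw [cd_eq, h1, lin, land_255]
    push_cast
    have e : ∀ i : Fin 4, num (rep c0 h0 w (sr i)) ≡ (cd (rep c0 h0 w (sr i)) : ℤ) [ZMOD 256] := fun i => by
      rw [cd_eq]; exact (Int.mod_modEq _ _).symm
    exact ((((e 0).mul_left _).add ((e 1).mul_left _)).add ((e 2).mul_left _)).add ((e 3).mul_left _)
  exact_mod_cast h2

theorem tup_injective : Function.Injective tup := by
  intro w w' h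
  apply rep_injective (cs := c0) (h := h0)
  have h1 : ∀ i : Fin 4, rep c0 h0 w (sr i) = rep c0 h0 w' (sr i) := by
    intro i
    refine cd_inj ((isRoot_sr c0 h0 i).act w) ((isRoot_sr c0 h0 i).act w') ?_
    simp only [tup, Prod.mk.injEq] at h
    fin_cases i
    · exact h.1
    · exact h.2.1
    · exact h.2.2.1
    · exact h.2.2.2
  refine LinearMap.ext fun v => ?_
  rw [eq_sum v]
  simp only [map_add, map_smul, h1]

theorem isR_tup (w : CoxeterMatrix.F₄.Group) {r : ℕ} (hr : r < 48) (h24 : 24 ≤ r) :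
    isR (lin r (tup w).1 (tup w).2.1 (tup w).2.2.1 (tup w).2.2.2) = true := by
  rw [← cd_rep w hr h24]
  exact isR_cd ((isRoot_vec' hr).act w)

/-! ### The subsets `J` (as masks) -/

/-- the subset of the mask -/
def JJ (m : ℕ) : Set (Fin 4) := {i | Nat.testBit m i = true}

/-- in the span of `J` -/
def rtB (m r : ℕ) : Bool :=
  (Nat.testBit m 0 || Nat.beq (vN r 0) 0) && (Nat.testBit m 1 || Nat.beq (vN r 1) 0) &&
    (Nat.testBit m 2 || Nat.beq (vN r 2) 0) && (Nat.testBit m 3 || Nat.beq (vN r 3) 0)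

/-- positive, in the span of `J` -/
def posB (m r : ℕ) : Bool := Nat.ble 24 r && rtB m r

/-- positive, not in the span of `J` -/
def notB (m r : ℕ) : Bool := Nat.ble 24 r && Nat.ble r 47 && !(rtB m r)

theorem all_fin4 {p : Fin 4 → Prop} : (∀ k, p k) ↔ p 0 ∧ p 1 ∧ p 2 ∧ p 3 :=
  ⟨fun h => ⟨h 0, h 1, h 2, h 3⟩, fun h k => by fin_cases k <;> tauto⟩

theorem rtB_iff {m r : ℕ} : rtB m r = true ↔ ∀ k : Fin 4, Nat.testBit m k = true ∨ vN r k = 0 := by
  rw [all_fin4]
  simp only [rtB, Bool.and_eq_true, Bool.or_eq_true, Nat.beq_eq]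
  tauto

theorem pos_iff {r : ℕ} (hr : r < 48) : 24 ≤ r ↔ 0 ≤ vec chevF4 4 r := by
  have h : ∀ r : Fin 48, 24 ≤ r.1 ↔ ∀ k, 0 ≤ vec chevF4 4 r k := by decide +kernel
  exact h ⟨r, hr⟩

theorem mem_RootsJ {m r : ℕ} (hr : r < 48) : vec chevF4 4 r ∈ RootsJ c0 h0 (JJ m) ↔ rtB m r = true := by
  rw [rtB_iff]
  constructor
  · rintro ⟨-, h⟩ k
    by_cases hk : Nat.testBit m k = true
    · exact Or.inl hk
    · right
      rw [← vec_zero hr]
      exact h k hk
  · intro h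
    refine ⟨isRoot_vec' hr, fun k hk => ?_⟩
    rw [vec_zero hr]
    rcases h k with h | h
    · exact absurd h hk
    · exact h

theorem mem_PosJ {m r : ℕ} (hr : r < 48) : vec chevF4 4 r ∈ PosJ c0 h0 (JJ m) ↔ posB m r = true := by
  rw [posB, Bool.and_eq_true, Nat.ble_eq, ← mem_RootsJ hr, pos_iff hr]
  exact ⟨fun h => ⟨h.2.1, h.1, h.2.2⟩, fun h => ⟨h.2.1, h.1, h.2.2⟩⟩

theorem mem_NotJ {m r : ℕ} (hr : r < 48) : vec chevF4 4 r ∈ NotJ c0 h0 (JJ m) ↔ notB m r = true := by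
  rw [notB, Bool.and_eq_true, Bool.and_eq_true, Nat.ble_eq, Nat.ble_eq, Bool.not_eq_true',
    ← Bool.not_eq_true, ← mem_RootsJ hr, pos_iff hr]
  constructor
  · rintro ⟨h1, h2, k, hk, hk0⟩
    exact ⟨⟨h2, by omega⟩, fun h => hk0.ne' (h.2 k hk)⟩
  · rintro ⟨⟨h1, -⟩, h2⟩
    refine ⟨isRoot_vec' hr, h1, ?_⟩
    by_contra hcon
    push Not at hcon
    exact h2 ⟨isRoot_vec' hr, fun k hk => le_antisymm (hcon k hk) (h1 k)⟩

/-- the coefficient outside `J` -/
def oc (m r k : ℕ) : ℕ := cond (Nat.testBit m k) 0 (vN r k)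

/-- the height outside `J` -/
def oh (m r : ℕ) : ℕ := oc m r 0 + oc m r 1 + oc m r 2 + oc m r 3

/-- the ray of `a` -/
def rayB (m a r : ℕ) : Bool :=
  notB m r && Nat.beq (oc m r 0 * oh m a) (oc m a 0 * oh m r) && Nat.beq (oc m r 1 * oh m a) (oc m a 1 * oh m r) &&
    Nat.beq (oc m r 2 * oh m a) (oc m a 2 * oh m r) && Nat.beq (oc m r 3 * oh m a) (oc m a 3 * oh m r)

theorem rayB_iff {m a r : ℕ} : rayB m a r = true ↔
    notB m r = true ∧ ∀ k : Fin 4, oc m r k * oh m a = oc m a k * oh m r := by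
  rw [all_fin4]
  simp only [rayB, Bool.and_eq_true, Nat.beq_eq]
  tauto

theorem oh_pos {m r : ℕ} (h : notB m r = true) : 0 < oh m r := by
  by_contra h0
  have h1 : ∀ k : Fin 4, oc m r k = 0 := by
    rw [all_fin4]
    unfold oh at h0
    exact ⟨by show oc m r 0 = 0; omega, by show oc m r 1 = 0; omega, by show oc m r 2 = 0; omega,
      by show oc m r 3 = 0; omega⟩
  have h2 : rtB m r = true := by
    rw [rtB_iff]
    intro k
    have := h1 k
    unfold oc at this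
    cases hk : Nat.testBit m k
    · rw [hk] at this; exact Or.inr this
    · exact Or.inl rfl
  simp only [notB, Bool.and_eq_true, Bool.not_eq_true', h2] at h
  exact absurd h.2 (by simp)

theorem oc_eq {m r : ℕ} (hr : r < 48) (h24 : 24 ≤ r) {k : Fin 4} (hk : k ∉ JJ m) :
    (oc m r k : ℤ) = vec chevF4 4 r k := by
  rw [vec_pos hr h24, oc]
  have : Nat.testBit m k = false := by simpa [JJ] using hk
  rw [this]
  rfl

theorem oc_zero {m r : ℕ} {k : Fin 4} (hk : k ∈ JJ m) : oc m r k = 0 := by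
  have : Nat.testBit m k = true := hk
  rw [oc, this]
  rfl

theorem ge_of_notB {m r : ℕ} (h : notB m r = true) : 24 ≤ r := by
  simp only [notB, Bool.and_eq_true, Nat.ble_eq] at h
  exact h.1.1

theorem lt_of_notB {m r : ℕ} (h : notB m r = true) : r < 48 := by
  simp only [notB, Bool.and_eq_true, Nat.ble_eq] at h
  omega

theorem mem_Ray {m a r : ℕ} (ha : a < 48) (hr : r < 48) (ha' : notB m a = true) :
    vec chevF4 4 r ∈ Ray c0 h0 (JJ m) (vec chevF4 4 a) ↔ rayB m a r = true := by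
  have ha24 := ge_of_notB ha'
  rw [rayB_iff, ← mem_NotJ hr]
  constructor
  · rintro ⟨h1, c, d, hc, hd, h2⟩
    refine ⟨h1, ?_⟩
    have hr24 := ge_of_notB ((mem_NotJ hr).1 h1)
    have h3 : ∀ k : Fin 4, c * (oc m r k : ℤ) = d * (oc m a k : ℤ) := by
      intro k
      by_cases hk : k ∈ JJ m
      · rw [oc_zero hk, oc_zero hk, Nat.cast_zero, mul_zero, mul_zero]
      · rw [oc_eq hr hr24 hk, oc_eq ha ha24 hk]
        exact h2 k hk
    have h4 : c * (oh m r : ℤ) = d * (oh m a : ℤ) := by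
      have e0 := h3 0
      have e1 := h3 1
      have e2 := h3 2
      have e3 := h3 3
      unfold oh
      push_cast at e0 e1 e2 e3 ⊢
      rw [mul_add, mul_add, mul_add, mul_add, mul_add, mul_add]
      exact congrArg₂ _ (congrArg₂ _ (congrArg₂ _ e0 e1) e2) e3
    intro k
    have h5 : c * ((oc m r k : ℤ) * oh m a) = c * ((oc m a k : ℤ) * oh m r) := by
      calc c * ((oc m r k : ℤ) * oh m a) = (c * (oc m r k : ℤ)) * oh m a := by ring
        _ = (d * (oc m a k : ℤ)) * oh m a := by rw [h3 k]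
        _ = (oc m a k : ℤ) * (d * oh m a) := by ring
        _ = (oc m a k : ℤ) * (c * oh m r) := by rw [h4]
        _ = c * ((oc m a k : ℤ) * oh m r) := by ring
    exact_mod_cast mul_left_cancel₀ hc.ne' h5
  · rintro ⟨h1, h2⟩
    have hr' := (mem_NotJ hr).1 h1
    have hr24 := ge_of_notB hr'
    refine ⟨h1, oh m a, oh m r, by exact_mod_cast oh_pos ha', by exact_mod_cast oh_pos hr', fun k hk => ?_⟩
    rw [← oc_eq hr hr24 hk, ← oc_eq ha ha24 hk]
    have := h2 k
    have h3 : ((oc m r k * oh m a : ℕ) : ℤ) = ((oc m a k * oh m r : ℕ) : ℤ) := by rw [this]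
    push_cast at h3
    rw [mul_comm, h3, mul_comm]

/-! ### Enumeration of the elements of `W` stabilising `J` -/

/-- candidates for the image of the simple root `k` -/
def cand (m k : ℕ) : List ℕ :=
  cond (Nat.testBit m k) (((List.range' 24 24).filter (posB m)).map fun r => cds0.getD r 0) cds0

/-- the tuples of the elements stabilising `J` -/
def tups (m : ℕ) : List (ℕ × ℕ × ℕ × ℕ) :=
  (cand m 1).flatMap fun t1 => (cand m 2).flatMap fun t2 =>
    cond (isR (lin 28 0 t1 t2 0) && isR (lin 30 0 t1 t2 0))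
      ((cand m 3).flatMap fun t3 => cond (isR (lin 26 0 t1 t2 t3) && isR (lin 29 0 t1 t2 t3))
        ((cand m 0).flatMap fun t0 => cond (isR (lin 34 t0 t1 t2 t3) &&
          (List.range' 24 24).all fun r => isR (lin r t0 t1 t2 t3)) [(t0, t1, t2, t3)] []) []) []

theorem lin_congr {r t0 t1 t2 t3 s0 s1 s2 s3 : ℕ} (h0 : vN r 0 = 0 ∨ t0 = s0) (h1 : vN r 1 = 0 ∨ t1 = s1)
    (h2 : vN r 2 = 0 ∨ t2 = s2) (h3 : vN r 3 = 0 ∨ t3 = s3) : lin r t0 t1 t2 t3 = lin r s0 s1 s2 s3 := by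
  have e : ∀ {a b c : ℕ}, (a = 0 ∨ b = c) → a * b = a * c := by
    rintro a b c (rfl | rfl)
    · rw [zero_mul, zero_mul]
    · rfl
  unfold lin
  rw [e h0, e h1, e h2, e h3]

theorem mem_tups {m : ℕ} {w : CoxeterMatrix.F₄.Group} (hw : w ∈ NJ c0 h0 (JJ m)) : tup w ∈ tups m := by
  have hc : ∀ k : Fin 4, cd (rep c0 h0 w (sr k)) ∈ cand m k := by
    intro k
    unfold cand
    cases hk : Nat.testBit m k
    · rw [cond_false]
      exact mem_cds0 ((isRoot_sr c0 h0 k).act w)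
    · rw [cond_true, List.mem_map]
      have h1 := hw.2 k hk
      obtain ⟨r, hr, h2⟩ := isRoot_iff'.1 h1.1
      rw [← h2, mem_PosJ hr] at h1
      refine ⟨r, ?_, ?_⟩
      · rw [List.mem_filter, List.mem_range'_1]
        refine ⟨⟨?_, hr⟩, h1⟩
        simp only [posB, Bool.and_eq_true, Nat.ble_eq] at h1
        exact h1.1
      · rw [← h2, cd_tab ⟨r, hr⟩]
  have hl : ∀ r, 24 ≤ r → r < 48 → isR (lin r (tup w).1 (tup w).2.1 (tup w).2.2.1 (tup w).2.2.2) = true :=
    fun r h1 h2 => isR_tup w h2 h1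
  have e1 : lin 28 0 (tup w).2.1 (tup w).2.2.1 0 = lin 28 (tup w).1 (tup w).2.1 (tup w).2.2.1 (tup w).2.2.2 :=
    lin_congr (Or.inl (by decide +kernel)) (Or.inr rfl) (Or.inr rfl) (Or.inl (by decide +kernel))
  have e2 : lin 30 0 (tup w).2.1 (tup w).2.2.1 0 = lin 30 (tup w).1 (tup w).2.1 (tup w).2.2.1 (tup w).2.2.2 :=
    lin_congr (Or.inl (by decide +kernel)) (Or.inr rfl) (Or.inr rfl) (Or.inl (by decide +kernel))
  have e3 : lin 26 0 (tup w).2.1 (tup w).2.2.1 (tup w).2.2.2 =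
      lin 26 (tup w).1 (tup w).2.1 (tup w).2.2.1 (tup w).2.2.2 :=
    lin_congr (Or.inl (by decide +kernel)) (Or.inr rfl) (Or.inr rfl) (Or.inr rfl)
  have e4 : lin 29 0 (tup w).2.1 (tup w).2.2.1 (tup w).2.2.2 =
      lin 29 (tup w).1 (tup w).2.1 (tup w).2.2.1 (tup w).2.2.2 :=
    lin_congr (Or.inl (by decide +kernel)) (Or.inr rfl) (Or.inr rfl) (Or.inr rfl)
  unfold tups
  rw [List.mem_flatMap]
  refine ⟨(tup w).2.1, hc 1, ?_⟩
  rw [List.mem_flatMap]
  refine ⟨(tup w).2.2.1, hc 2, ?_⟩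
  rw [e1, e2, hl 28 (by omega) (by omega), hl 30 (by omega) (by omega), Bool.and_self, cond_true, List.mem_flatMap]
  refine ⟨(tup w).2.2.2, hc 3, ?_⟩
  rw [e3, e4, hl 26 (by omega) (by omega), hl 29 (by omega) (by omega), Bool.and_self, cond_true, List.mem_flatMap]
  refine ⟨(tup w).1, hc 0, ?_⟩
  have e6 : ((List.range' 24 24).all fun r => isR (lin r (tup w).1 (tup w).2.1 (tup w).2.2.1 (tup w).2.2.2)) =
      true := by
    rw [List.all_eq_true]
    intro r hr
    rw [List.mem_range'_1] at hr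
    exact hl r (by omega) (by omega)
  rw [hl 34 (by omega) (by omega), e6, Bool.and_self, cond_true, List.mem_singleton]

/-- the exponent of a tuple -/
def ex (Fl : List ℕ) (t : ℕ × ℕ × ℕ × ℕ) : ℕ :=
  (Fl.filter fun r => Nat.ble 128 (lin r t.1 t.2.1 t.2.2.1 t.2.2.2)).length

/-- the sum over `N_J` -/
def sumW (m : ℕ) (Fl : List ℕ) : ℕ := ((tups m).map fun t => 2 ^ ex Fl t).sum

theorem sum_toFinset_le {α : Type*} [DecidableEq α] (g : α → ℕ) : ∀ l : List α, ∑ t ∈ l.toFinset, g t ≤ (l.map g).sum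
  | [] => by simp
  | a :: l => by
    have ih := sum_toFinset_le g l
    rw [List.toFinset_cons, List.map_cons, List.sum_cons]
    by_cases ha : a ∈ l.toFinset
    · rw [Finset.insert_eq_of_mem ha]
      exact ih.trans (Nat.le_add_left _ _)
    · rw [Finset.sum_insert ha]
      exact Nat.add_le_add_left ih _

theorem sum_le (m : ℕ) (g : ℕ × ℕ × ℕ × ℕ → ℕ) (S : Finset CoxeterMatrix.F₄.Group)
    (hS : ∀ w ∈ S, w ∈ NJ c0 h0 (JJ m)) : ∑ w ∈ S, g (tup w) ≤ ((tups m).map g).sum := by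
  classical
  rw [← Finset.sum_image (f := g) (g := tup) (fun a _ b _ h => tup_injective h)]
  refine (Finset.sum_le_sum_of_subset ?_).trans (sum_toFinset_le g (tups m))
  intro t ht
  obtain ⟨w, hw, rfl⟩ := Finset.mem_image.1 ht
  exact List.mem_toFinset.2 (mem_tups (hS w hw))

end Cfsg.Agent.H874.TS
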